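import Cfsg.Agent.GenA.GN.Main
import Cfsg.Agent.Lib.CharP.Sylow
import Cfsg.Agent.Lib.CharP.Parabolic
import Cfsg.Agent.Lib.CharP.PushOne.Common
import Cfsg.Agent.Lib.CharP.PushOne.Near
import Cfsg.Agent.Lib.PLocal.BlockBasic
import Cfsg.Agent.Techniques.Functor.Semisimple
import Cfsg.Agent.Lib.Transfer.NormalPComplement

/-!
Smaller pushing-up situations inside a given one, and their quotients by central subgroups.
-/

set_option autoImplicit false
set_option linter.unusedSectionVars false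
set_option linter.style.haveILetI false

namespace Cfsg.Agent.GenA.TwoNorm

open Subgroup Cfsg.Agent.Classical.GL2 Cfsg.Agent.CharP Cfsg.Agent.CharP.PushOne Cfsg.Agent.GenA.GN
open scoped MatrixGroups commutatorElement

variable {G : Type*} [Group G] [Finite G] {p : ℕ} [hp : Fact p.Prime]

theorem coprime_pow {x : G} : ∃ k, (orderOf (x ^ p ^ k)).Coprime p := by
  obtain ⟨k, hk⟩ := Cfsg.Agent.Transfer.NormalPComplement.exists_pow_coprime (p := p) (orderOf_pos x).ne'
  exact ⟨k, hk⟩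

/-- A normal subgroup whose elements of order prime to `p` are trivial lies in `O_p`. -/
theorem le_core_of_coprime {H : Subgroup G} [H.Normal]
    (h : ∀ x ∈ H, (orderOf x).Coprime p → x = 1) : H ≤ Cfsg.pCore p G := by
  refine Cfsg.Agent.CharP.le_pCore inferInstance fun ⟨x, hx⟩ => ?_
  obtain ⟨k, hk⟩ := coprime_pow (p := p) (x := x)
  exact ⟨k, Subtype.ext (h _ (H.pow_mem hx _) hk)⟩

/-- In a constrained group the centralizer in a normal subgroup of its intersection with `O_p` is small. -/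
theorem inf_centralizer_le (hc : centralizer (Cfsg.pCore p G : Set G) ≤ Cfsg.pCore p G) (N : Subgroup G)
    [N.Normal] : N ⊓ centralizer ((Cfsg.pCore p G ⊓ N : Subgroup G) : Set G) ≤ Cfsg.pCore p G := by
  have hQn : (Cfsg.pCore p G).Normal := Cfsg.Agent.PLocal.Cores.pCore_normal'
  have hQp := Cfsg.Agent.CharP.isPGroup_pCore p G
  refine le_core_of_coprime fun x hx hco => ?_
  have hxQ : x ∈ Cfsg.pCore p G := hc fun y hy => by
    refine (eq_one_of_chain (B := Cfsg.pCore p G ⊓ N) (hQp.to_le inf_le_left) hco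
      (fun b hb => (hx.2 b hb).symm) ⟨?_, ?_⟩).symm
    · rw [commutatorElement_def]
      exact (Cfsg.pCore p G).mul_mem (hQn.conj_mem y hy x) ((Cfsg.pCore p G).inv_mem hy)
    · rw [commutatorElement_def, mul_assoc x y, mul_assoc x]
      exact N.mul_mem hx.1 (Normal.conj_mem inferInstance _ (N.inv_mem hx.1) y)
  obtain ⟨j, hj⟩ := IsPGroup.iff_orderOf.1 hQp ⟨x, hxQ⟩
  rw [orderOf_mk] at hj
  exact orderOf_eq_one_iff.1 (Nat.eq_one_of_dvd_coprimes (hco.pow_right j) dvd_rfl (dvd_of_eq hj))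

variable {S : Subgroup G}

theorem not_le_core (hE : Cfsg.IsPushingUpSituation p S) : ¬ S ≤ Cfsg.pCore p G := by
  obtain ⟨F, _, _, φ, hd⟩ := exists_dat hE
  intro hle
  obtain ⟨s, hs, e⟩ := hd.upper.ge (mem_upperP.2 ⟨1, rfl⟩ : pr (uniSL (1 : F)) ∈ upperP F)
  have h1 : pr (uniSL (1 : F)) = pr (uniSL 0) := by
    rw [← e, uniSL_zero, map_one]
    exact hd.coreKer (hle hs)
  exact one_ne_zero (pi_uni_injective h1)

/-- A normal subgroup containing the Sylow subgroup is everything. -/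
theorem eq_top_of_normal_ge (hE : Cfsg.IsPushingUpSituation p S) {N : Subgroup G} [N.Normal]
    (h : S ≤ N) : N = ⊤ := by
  by_contra hne
  exact not_le_core hE fun x hx => PushingUpCL.inf_le_pCore hE N
    (by rwa [sup_eq_left.2 h]) ⟨h hx, hx⟩

theorem central_of_normal (hE : Cfsg.IsPushingUpSituation p S) {D : Subgroup G} [D.Normal]
    (h : D ≤ centralizer (S : Set G)) : ∀ z ∈ D, ∀ g : G, g * z = z * g := by
  have htop := eq_top_of_normal_ge hE (N := centralizer (D : Set G)) (le_centralizer_iff.1 h)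
  intro z hz g
  exact ((htop.ge (mem_top g)) z hz).symm

theorem odd_two_ne (hp2 : p ≠ 2) {F : Type} [Field F] [Fintype F] {n : ℕ}
    (hF : Fintype.card F = p ^ n) : (2 : F) ≠ 0 := by
  intro h2
  have := FiniteField.even_card_iff_char_two (F := F)
  have hodd : Odd (Fintype.card F) := hF ▸ (hp.out.odd_of_ne_two hp2).pow
  have hch : ringChar F = 2 := by
    refine ((Nat.prime_dvd_prime_iff_eq ?_ Nat.prime_two).1 ((ringChar.spec F 2).1 (by exact_mod_cast h2)))
    exact CharP.char_is_prime F (ringChar F)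
  have h1 := FiniteField.even_card_of_char_two hch
  rw [Nat.odd_iff] at hodd
  omega

variable (p S) in
/-- `B` becomes normal or is a Sylow subgroup of a smaller situation supplementing `S`. -/
def Sub (B : Subgroup G) : Prop :=
  B.Normal ∨ ∃ Y : Subgroup G, B ≤ Y ∧ Cfsg.IsPushingUpSituation p (B.subgroupOf Y) ∧ Y ⊔ S = ⊤

theorem descend (hp2 : p ≠ 2) (hE : Cfsg.IsPushingUpSituation p S) {B : Subgroup G} (N : Subgroup G)
    [N.Normal] (hBS : B ≤ S) (hSB : S ≤ normalizer (B : Set G)) (hNS : N ⊔ S = ⊤)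
    (hint : N ⊓ S ≤ B) : Sub p S B := by
  classical
  obtain ⟨F, _, _, φ, hd⟩ := exists_dat hE
  obtain ⟨-, ⟨P, hP⟩, hcons, -⟩ := id hE
  set Q := Cfsg.pCore p G
  have hQS : Q ≤ S := (PushingUpCL.center_le_pCore hE).2
  -- the normal subgroup `N B`
  set N' := N ⊔ B with hN'
  haveI hN'n : N'.Normal := by
    refine normalizer_eq_top_iff.1 (top_le_iff.1 (hNS.symm.le.trans (sup_le ?_ ?_)))
    · exact le_sup_left.trans le_normalizer
    · exact fun x hx => Cfsg.Agent.Techniques.Functor.mem_normalizer_sup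
        (by rw [normalizer_eq_top]; exact mem_top x) (hSB hx)
  have hint' : N' ⊓ S ≤ B := by
    rintro x ⟨hx, hxS⟩
    obtain ⟨n, hn, b, hb, rfl⟩ := mem_sup_of_normal_left.1 hx
    exact B.mul_mem (hint ⟨hn, by simpa using S.mul_mem hxS (S.inv_mem (hBS hb))⟩) hb
  by_cases hBQ : B ≤ Q
  · refine Or.inl ?_
    have e : B = N' ⊓ Q := le_antisymm (le_inf le_sup_right hBQ)
      ((inf_le_inf_left _ hQS).trans hint')
    rw [e]
    infer_instance
  refine Or.inr ?_
  obtain ⟨b, hb, hbQ⟩ := Set.not_subset.1 hBQ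
  have hBsyl : Cfsg.Agent.CharP.IsSylIn p B N' := by
    have h1 := (Cfsg.Agent.CharP.isSylIn_top_iff.2 ⟨P, hP⟩).inf_normal (N := N') le_top
      (by rw [normalizer_eq_top])
    have e : S ⊓ N' = B := le_antisymm (inf_comm S N' ▸ hint') (le_inf hBS le_sup_right)
    rwa [e] at h1
  -- the image is everything
  have hH : N'.map φ = ⊤ := by
    obtain ⟨n, hn, hF⟩ := hd.cardF
    haveI : (N'.map φ).Normal := Normal.map inferInstance φ hd.surj
    obtain ⟨x0, hx0⟩ := mem_upperP.1 (hd.upper.le (mem_map_of_mem φ (hBS hb)))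
    have hx0n : x0 ≠ 0 := fun e => hbQ (hd.kerS b (hBS hb) (by rw [← hx0, e, uniSL_zero, map_one]))
    have hbH : pr (uniSL x0) ∈ N'.map φ := hx0 ▸ mem_map_of_mem φ (mem_sup_right hb)
    have hsq : ∀ a : F, pr (uniSL (a * a * x0)) ∈ N'.map φ := by
      intro a
      rcases eq_or_ne a 0 with rfl | ha
      · simp [uniSL_zero]
      · have h1 := Normal.conj_mem inferInstance _ hbH (pr (dSL (Units.mk0 a ha) : SL(2, F)))
        rwa [← map_inv, ← map_mul, ← map_mul, d_conj_uni, Units.val_mk0] at h1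
    have h2 : (2 : F) ≠ 0 := odd_two_ne hp2 hF
    have hu : ∀ t, pr (uniSL t) ∈ N'.map φ := by
      intro t
      set s : F := t / (2 * 2 * x0) with hs
      have e : t = (s + 1) * (s + 1) * x0 + -((s - 1) * (s - 1) * x0) := by
        have : 2 * 2 * x0 ≠ 0 := mul_ne_zero (mul_ne_zero h2 h2) hx0n
        rw [hs]; field_simp; ring
      rw [e, ← uniSL_mul, map_mul, ← uniSL_inv, map_inv]
      exact mul_mem (hsq _) (inv_mem (hsq _))
    have h3 : (N'.map φ).comap (pr : SL(2, F) →* _) = ⊤ := eq_top_of_uni_low hu fun y => by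
      have h4 := Normal.conj_mem inferInstance _ (hu (-y)) (pr (wSL : SL(2, F)))
      rwa [← map_inv, ← map_mul, ← map_mul, w_conj_uni, neg_neg] at h4
    rw [← map_comap_eq_self_of_surjective (QuotientGroup.mk'_surjective _) (N'.map φ), h3,
      map_top_of_surjective _ (QuotientGroup.mk'_surjective _)]
  have hup : B.map φ = upperP F := by
    obtain ⟨n, hn, hF⟩ := hd.cardF
    have hU : IsPGroup p (upperP F) :=
      IsPGroup.of_card (n := n) (by rw [natCard_upperP, Nat.card_eq_fintype_card, hF])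
    obtain ⟨R, hR⟩ := id hBsyl
    have hs : Function.Surjective (φ.comp N'.subtype) := fun y => by
      obtain ⟨x, hx, e⟩ := hH.ge (mem_top y)
      exact ⟨⟨x, hx⟩, e⟩
    have h1 : ((R.mapSurjective hs : Sylow p PSL(2, F)) : Subgroup PSL(2, F)) = B.map φ := by
      rw [Sylow.coe_mapSurjective, ← Subgroup.map_map, hR]
    rw [← h1]
    exact ((R.mapSurjective hs).is_maximal' hU (h1.trans_le ((map_mono hBS).trans hd.upper.le))).symm
  -- a smallest cover
  obtain ⟨Y, ⟨hBY, hYN, hYmap⟩, hYmin⟩ := (Set.toFinite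
    {Y : Subgroup G | B ≤ Y ∧ Y ≤ N' ∧ Y.map φ = ⊤}).exists_minimal ⟨N', le_sup_right, le_rfl, hH⟩
  refine ⟨Y, hBY, ?_, hd.gen _ le_sup_right
    (top_le_iff.1 (hYmap.ge.trans (map_mono le_sup_left)))⟩
  set ψ : ↥Y →* PSL(2, F) := φ.comp Y.subtype with hψ
  have hψs : Function.Surjective ψ := fun y => by
    obtain ⟨x, hx, e⟩ := hYmap.ge (mem_top y)
    exact ⟨⟨x, hx⟩, e⟩
  have hψB : (B.subgroupOf Y).map ψ = upperP F := by
    rw [hψ, ← Subgroup.map_map, map_subgroupOf_eq_of_le hBY, hup]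
  set M0 := (normalizer (upperP F : Set PSL(2, F))).comap ψ with hM0
  have hM0ne : M0 ≠ ⊤ := fun htop => by
    obtain ⟨w, hw⟩ := hψs (pr (wSL : SL(2, F)))
    have h1 : ψ w ∈ normalizer (upperP F : Set PSL(2, F)) := htop.ge (mem_top w)
    rw [hw] at h1
    have := upper_of_normalizer h1
    simp [coe_wSL] at this
  have hle : ∀ H : Subgroup ↥Y, B.subgroupOf Y ≤ H → H ≠ ⊤ → H ≤ M0 := by
    intro H hBH hne
    by_contra hnot
    refine hne (top_le_iff.1 fun x _ => ?_)
    have h1 := top_of_upper (H := H.map ψ) (hψB ▸ map_mono hBH) fun hc => hnot (map_le_iff_le_comap.1 hc)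
    have hmem : H.map Y.subtype ∈ {Y : Subgroup G | B ≤ Y ∧ Y ≤ N' ∧ Y.map φ = ⊤} := by
      refine ⟨(map_subgroupOf_eq_of_le hBY).ge.trans (map_mono hBH), (map_subtype_le _).trans hYN, ?_⟩
      rw [Subgroup.map_map, ← hψ, h1]
    obtain ⟨x', hx', e⟩ := hYmin hmem (map_subtype_le H) x.2
    exact (Subtype.ext e : x' = x) ▸ hx'
  have hBM : B.subgroupOf Y ≤ M0 := map_le_iff_le_comap.1 (hψB.le.trans le_normalizer)
  have hco : IsCoatom M0 := ⟨hM0ne, fun Z hZ => by
    by_contra hne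
    exact hZ.not_ge (hle Z (hBM.trans hZ.le) hne)⟩
  obtain ⟨R, hR⟩ : Cfsg.Agent.CharP.IsSylIn p B Y := hBsyl.mono hBY hYN
  have hRB : (R : Subgroup ↥Y) = B.subgroupOf Y := by
    rw [← hR, subgroupOf, comap_map_eq_self_of_injective Y.subtype_injective]
  refine ⟨fun h => hM0ne (top_le_iff.1 (h.le.trans bot_le)), ⟨R, hRB⟩, ?_,
    ⟨M0, ⟨hco, hBM⟩, fun M hM => ((hM.1.le_iff.1 (hle M hM.2 hM.1.1)).resolve_left hco.1).symm⟩,
    ψ.ker, inferInstance, F, inferInstance, inferInstance, ?_⟩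
  · have hQN : Q ⊓ N' ≤ Y := ((inf_comm Q N').le.trans ((inf_le_inf_left _ hQS).trans hint')).trans hBY
    have hQY : (Q ⊓ N').subgroupOf Y ≤ Cfsg.pCore p ↥Y := Cfsg.Agent.CharP.le_pCore (Normal.comap inferInstance _)
      (((Cfsg.Agent.CharP.isPGroup_pCore p G).to_le inf_le_left).comap_subtype)
    intro x hx
    have h1 : (x : G) ∈ N' ⊓ centralizer ((Q ⊓ N' : Subgroup G) : Set G) :=
      ⟨hYN x.2, fun y hy => congrArg Subtype.val (hx ⟨y, hQN hy⟩ (hQY hy))⟩
    exact hQY ⟨inf_centralizer_le hcons N' h1, h1.1⟩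
  · obtain ⟨n, -, hF⟩ := hd.cardF
    exact ⟨n, hF, ⟨QuotientGroup.quotientKerEquivOfSurjective ψ hψs⟩⟩

/-- The image of a situation under a map with central kernel. -/
theorem situation_of_surjective {H : Type*} [Group H] [Finite H] (hE : Cfsg.IsPushingUpSituation p S)
    {f : G →* H} (hf : Function.Surjective f) (hker : f.ker ≤ S)
    (hcen : ∀ z ∈ f.ker, ∀ g : G, g * z = z * g) : Cfsg.IsPushingUpSituation p (S.map f) := by
  obtain ⟨F, _, _, φ, hd⟩ := exists_dat hE
  obtain ⟨-, ⟨P, hP⟩, hcons, ⟨M, ⟨hM, hSM⟩, huniq⟩, -⟩ := id hE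
  set Q := Cfsg.pCore p G
  have hkQ : f.ker ≤ Q := Cfsg.Agent.CharP.le_pCore inferInstance ((hP ▸ P.2 : IsPGroup p S).to_le hker)
  have hkM : f.ker ≤ M := hker.trans hSM
  have hle : ∀ X : Subgroup G, S ≤ X → X ≠ ⊤ → X ≤ M := fun X hX hne => by
    obtain ⟨M', hM', hXM⟩ := (eq_top_or_exists_le_coatom X).resolve_left hne
    exact hXM.trans (huniq M' ⟨hM', hX.trans hXM⟩).le
  have hMf : (M.map f).comap f = M := comap_map_eq_self hkM
  have hMne : M.map f ≠ ⊤ := fun h => hM.1 (by rw [← hMf, h, comap_top])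
  have hle' : ∀ X : Subgroup H, S.map f ≤ X → X ≠ ⊤ → X ≤ M.map f := fun X hX hne => by
    rw [← map_comap_eq_self_of_surjective hf X]
    exact map_mono (hle _ (map_le_iff_le_comap.1 hX) fun e =>
      hne (by rw [← map_comap_eq_self_of_surjective hf X, e, map_top_of_surjective _ hf]))
  have hco : IsCoatom (M.map f) := ⟨hMne, fun X hX => by
    by_contra hne
    exact hX.not_ge (hle' X ((map_mono hSM).trans hX.le) hne)⟩
  let ψ : H →* PSL(2, F) := f.liftOfSurjective hf ⟨φ, hkQ.trans hd.coreKer⟩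
  have hψ : ∀ x, ψ (f x) = φ x := f.liftOfRightInverse_comp_apply _ _ _
  have hψs : Function.Surjective ψ := fun y => by
    obtain ⟨x, rfl⟩ := hd.surj y
    exact ⟨f x, hψ x⟩
  refine ⟨fun h => hMne (top_le_iff.1 (h.le.trans bot_le)),
    ⟨P.mapSurjective hf, by rw [Sylow.coe_mapSurjective, hP]⟩, ?_,
    ⟨M.map f, ⟨hco, map_mono hSM⟩,
      fun M' hM' => ((hM'.1.le_iff.1 (hle' M' hM'.2 hM'.1.1)).resolve_left hco.1).symm⟩,
    ψ.ker, inferInstance, F, inferInstance, inferInstance, ?_⟩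
  · haveI : (Q.map f).Normal := Normal.map Cfsg.Agent.PLocal.Cores.pCore_normal' f hf
    have hQf : Q.map f ≤ Cfsg.pCore p H :=
      Cfsg.Agent.CharP.le_pCore inferInstance ((Cfsg.Agent.CharP.isPGroup_pCore p G).map f)
    refine (centralizer_le (SetLike.coe_subset_coe.2 hQf)).trans ?_
    refine le_trans ?_ hQf
    have hL : (centralizer (Q.map f : Set H)).comap f ≤ Q := by
      haveI := Normal.comap (inferInstance : (centralizer (Q.map f : Set H)).Normal) f
      refine le_core_of_coprime fun x hx hco' => ?_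
      have hxQ : x ∈ Q := hcons fun y hy => (eq_one_of_chain (B := f.ker)
        ((Cfsg.Agent.CharP.isPGroup_pCore p G).to_le hkQ) hco' (fun b hb => hcen b hb x) (by
          rw [MonoidHom.mem_ker, map_commutatorElement, commutatorElement_eq_one_iff_mul_comm]
          exact (hx _ (mem_map_of_mem f hy)).symm)).symm
      obtain ⟨j, hj⟩ := IsPGroup.iff_orderOf.1 (Cfsg.Agent.CharP.isPGroup_pCore p G) ⟨x, hxQ⟩
      rw [orderOf_mk] at hj
      exact orderOf_eq_one_iff.1 (Nat.eq_one_of_dvd_coprimes (hco'.pow_right j) dvd_rfl (dvd_of_eq hj))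
    intro y hy
    obtain ⟨x, rfl⟩ := hf y
    exact mem_map_of_mem f (hL hy)
  · obtain ⟨n, -, hF⟩ := hd.cardF
    exact ⟨n, hF, ⟨QuotientGroup.quotientKerEquivOfSurjective ψ hψs⟩⟩

end Cfsg.Agent.GenA.TwoNorm
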