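import Cfsg.Agent.GenA.TwoNorm.Basic

/-!
For each case of the pair theorem: a characteristic subgroup to descend to, or one that is central in
every situation with noncentral centre.
-/

set_option autoImplicit false
set_option linter.unusedSectionVars false
set_option linter.style.haveILetI false

namespace Cfsg.Agent.GenA.TwoNorm

open Subgroup Cfsg.Agent.Classical.GL2 Cfsg.Agent.CharP Cfsg.Agent.CharP.PushOne Cfsg.Agent.GenA.GN
open scoped MatrixGroups commutatorElement

universe u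

variable {B : Type u} [Group B] [Finite B] {p : ℕ} [hp : Fact p.Prime]

/-- The normalizer of a subgroup normalizes the images of its characteristic subgroups. -/
theorem normalizer_le_char {G : Type u} [Group G] {P : Subgroup G} (e : B ≃* ↥P) {K : Subgroup B}
    (hK : K.Characteristic) : normalizer (P : Set G) ≤ normalizer (K.map (GN.emb e) : Set G) := by
  intro g hg
  have hmap : P.map (MulAut.conj g).toMonoidHom = P := Subgroup.mem_normalizer_iff_map_conj_eq.1 hg
  let ψ : ↥P ≃* ↥P :=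
    (P.equivMapOfInjective _ (MulAut.conj g).injective).trans (MulEquiv.subgroupCongr hmap)
  rw [← Cfsg.Agent.Techniques.Functor.map_cnj_eq_self]
  conv_rhs => rw [← characteristic_iff_map_eq.1 hK ((e.trans ψ).trans e.symm)]
  rw [Subgroup.map_map, Subgroup.map_map]
  congr 1
  ext x
  simp [ψ, GN.emb, Cfsg.Agent.Techniques.Functor.cnj]
  rfl

/-- The centre is noncentral in the situation. -/
def NC {G : Type u} [Group G] (P : Subgroup G) : Prop :=
  ¬ ∀ z ∈ P ⊓ centralizer (P : Set G), ∀ g : G, g * z = z * g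

variable (p) in
/-- A characteristic subgroup to which one can descend. -/
def Desc (B₁ : Subgroup B) : Prop :=
  ∀ (G : Type u) [Group G] [Finite G] (P : Subgroup G) (e : B ≃* ↥P),
    Cfsg.IsPushingUpSituation p P → NC P → Sub p P (B₁.map (GN.emb e))

variable (p) in
/-- A subgroup central in every situation. -/
def Cent (D : Subgroup B) : Prop :=
  ∀ (G : Type u) [Group G] [Finite G] (P : Subgroup G) (e : B ≃* ↥P),
    Cfsg.IsPushingUpSituation p P → NC P → ∀ z ∈ D.map (GN.emb e), ∀ g : G, g * z = z * g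

variable (p B) in
/-- The outcome of the case distinction. -/
def Outcome : Prop :=
  (∃ B₁ : Subgroup B, B₁ ≠ ⊤ ∧ B₁ ≠ ⊥ ∧ B₁.Characteristic ∧ center B ≤ B₁ ∧ Desc p B₁) ∨
    (∃ D : Subgroup B, D ≠ ⊥ ∧ D.Characteristic ∧ D ≤ center B ∧ Cent p D) ∨
    (Cfsg.thompsonSubgroupA B = ⊤ ∧
      ⁅⁅⁅(⊤ : Subgroup B), (⊤ : Subgroup B)⁆, (⊤ : Subgroup B)⁆, (⊤ : Subgroup B)⁆ = ⊥)

theorem emb_normalizer {G : Type u} [Group G] {P : Subgroup G} (e : B ≃* ↥P) {K : Subgroup B}
    (hK : K.Characteristic) : P ≤ normalizer (K.map (GN.emb e) : Set G) :=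
  le_normalizer.trans (normalizer_le_char e hK)

theorem desc_cz (hp2 : p ≠ 2) : Desc p (cz B) := by
  intro G _ _ P e hE hnc
  have hn := emb_normalizer e (cz_char (S := B))
  rw [cz_emb e] at hn ⊢
  have hCS : centralizer (PushingUpCL.omegaCore p G : Set G) ⊔ P ≠ ⊤ := fun h =>
    hnc (PushingUpCL.central_of_sup hE h)
  by_cases hall : ∀ A ∈ Cfsg.Agent.PLocal.MaxAbelian.family 0 P, A ≤ Cfsg.pCore p G
  · exact Or.inl (PushingUpZJ.jt_normal hE hCS hall)
  push Not at hall
  obtain ⟨A, hA, hAP⟩ := hall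
  obtain ⟨a, haA, haP⟩ := Set.not_subset.mp hAP
  refine descend hp2 hE (normalClosure (A : Set G)) inf_le_left hn ?_ ?_
  · by_contra h
    exact haP (PushingUpCL.inf_le_pCore hE _ h ⟨subset_normalClosure haA, hA.1 haA⟩)
  · rintro x ⟨hxN, hxP⟩
    refine ⟨hxP, fun w hw => ?_⟩
    obtain ⟨v, c, rfl, hv, hc⟩ := PushingUpZJ.decomposition hE hCS hA hAP hw
    exact ((show Commute x v from hv x hxP).mul_right (show Commute x c from hc x hxN)).eq.symm

theorem cent_power (h : ¬ Cfsg.IsElementaryAbelian p (center B)) (hC : cz B = ⊤) :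
    Cent p (Cfsg.powerClosure p 1 (center B)) := by
  intro G _ _ P e hE hnc
  obtain ⟨P0, hP0, hE₁, hE₂, K, hK, F, _, _, n, hn, hF, hE₃⟩ := exists_parts_of_situation hE
  subst hP0
  rcases S2770.result P0 hE₁ hE₂ K F n hn hF hE₃ (fun h0 => h ⟨inferInstance, fun a ha =>
    emb_inj e (by
      rw [map_pow, map_one]
      exact h0.2 _ (map_center_emb e ▸ mem_map_of_mem _ ha))⟩) with hN | hN
  · rw [map_powerClosure', map_center_emb e]
    haveI := hN
    refine central_of_normal hE ((closure_le _).2 ?_)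
    rintro _ ⟨x, hx, rfl⟩
    exact pow_mem hx.2 _
  · exfalso
    rw [← cz_emb e, hC, map_emb_top] at hN
    exact not_le_core hE (Cfsg.Agent.CharP.le_pCore hN P0.2)

/-- The derived subgroup of a minimal centrally large subgroup is normal. -/
theorem derived_normal {G : Type u} [Group G] [Finite G] {P : Subgroup G}
    (hE : Cfsg.IsPushingUpSituation p P) (hnc : NC P) {Q : Subgroup ↥P}
    (hQ : Cfsg.IsMinimalCentrallyLarge Q) : (⁅Q, Q⁆.map P.subtype).Normal := by
  have hS := PushingUpMCL.isPGroup hE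
  rcases PushingUpCL.dichotomy hE with hz | ⟨-, hoff⟩
  · exact absurd hz hnc
  obtain ⟨hVP, hPV, -⟩ := PushingUpMCL.subgroupOf_le_centralizer (G := G) (p := p) (S := P)
  have h07 : ∀ Q R : Subgroup P, Cfsg.IsMinimalCentrallyLarge Q → Cfsg.IsMinimalCentrallyLarge R →
      (Q ⊓ R) ⊔ (Q ⊓ centralizer (Q : Set P)) = Q ∧ Nat.card Q = Nat.card R :=
    fun Q R hQ hR => ⟨(S3007.result P hS Q R hQ hR).1, (S3007.result P hS Q R hQ hR).2.2.1⟩
  obtain ⟨hXm, -, -⟩ := PushingUpCL.exchange_minimal hS hVP hPV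
    (PushingUpMCL.hoff_subgroupOf hE hoff) h07 hQ
  set D := (⁅Q, Q⁆).map P.subtype with hD
  refine PushingUpMCL.normal_of_forall_conj (A := fun _ : Unit => D) (iSup_const).symm fun _ g => ?_
  obtain ⟨X', hX', he, -⟩ := PushingUpMCL.exists_conj hE hXm (sup_le inf_le_right hVP) g
  show D.map _ ≤ D
  have e : D.map (MulAut.conj g).toMonoidHom = D := by
    rw [hD, ← S3007.derived_eq hXm hQ, Subgroup.map_map, Subgroup.map_commutator, ← he,
      ← Subgroup.map_commutator, S3007.derived_eq hX' hXm]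
  exact e.le

theorem outcome_derived (hp2 : p ≠ 2) (hS : IsPGroup p B) {Q : Subgroup B}
    (hQ : Cfsg.IsMinimalCentrallyLarge Q) (hab : ¬ IsMulCommutative ↥Q) : Outcome B p := by
  haveI hch := S2990.char_derived hS hQ
  have hDne : ⁅Q, Q⁆ ≠ ⊥ := fun e => hab (commutator_self_eq_bot_iff.1 e)
  by_cases hB1 : centralizer ((⁅Q, Q⁆ : Subgroup B) : Set B) = ⊤
  · refine Or.inr (Or.inl ⟨⁅Q, Q⁆, hDne, hch, fun z hz => mem_center_iff.2 fun y =>
      ((hB1.ge (mem_top y)) z hz).symm, fun G _ _ P e hE hnc => ?_⟩)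
    haveI := derived_normal hE hnc (minimalCL_mapE e hQ)
    rw [← map_mapE e, mapE, Subgroup.map_commutator]
    refine central_of_normal hE ?_
    rw [← Subgroup.map_commutator, ← mapE, map_mapE e, le_centralizer_iff]
    refine (map_emb_top e).ge.trans ?_
    rw [← hB1, map_centralizer_emb]
    exact inf_le_right
  · refine Or.inl ⟨_, hB1, fun e0 => ?_, inferInstance, center_le_centralizer _, fun G _ _ P e hE hnc => ?_⟩
    · have : Nontrivial B := by
        by_contra hs
        rw [not_nontrivial_iff_subsingleton] at hs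
        exact hDne (Subsingleton.elim _ _)
      exact center_ne_bot hS (le_bot_iff.1 (e0 ▸ center_le_centralizer _))
    have hn := emb_normalizer e (inferInstance : (centralizer ((⁅Q, Q⁆ : Subgroup B) : Set B)).Characteristic)
    rw [map_centralizer_emb] at hn ⊢
    haveI : (⁅Q, Q⁆.map (GN.emb e)).Normal := by
      rw [← map_mapE e, mapE, Subgroup.map_commutator]
      exact derived_normal hE hnc (minimalCL_mapE e hQ)
    set C := centralizer ((⁅Q, Q⁆ : Subgroup B).map (GN.emb e) : Set G)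
    by_cases h : C ⊔ P = ⊤
    · exact descend hp2 hE C inf_le_left hn h (inf_comm C P).le
    · refine Or.inl ?_
      have e1 : P ⊓ C = Cfsg.pCore p G ⊓ C := le_antisymm
        (le_inf (inf_comm P C ▸ PushingUpCL.inf_le_pCore hE C h) inf_le_right)
        (inf_le_inf_right _ (PushingUpCL.center_le_pCore hE).2)
      rw [e1]
      infer_instance

theorem desc_opt (hp2 : p ≠ 2) {f : ℕ} (hR : Res p (⊤ : Subgroup B) f) :
    Desc p (optJoin p B f) := by
  intro G _ _ P e hE hnc
  by_cases hb : ((optJoin p B f).map (GN.emb e)).Normal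
  · exact Or.inl hb
  obtain ⟨z, hz, g0, hg0⟩ : ∃ z ∈ P ⊓ centralizer (P : Set G), ∃ g : G, g * z ≠ z * g := by
    by_contra h
    push Not at h
    exact hnc h
  obtain ⟨z, hzc, rfl⟩ := (map_center_emb e).ge hz
  obtain ⟨F, _, _, φ, A, g, h⟩ := exists_frame_of_noncentral hR e hE hb hzc hg0
  have hle : ∀ X : Subgroup G, Opt p P f X → X ≤ (optJoin p B f).map (GN.emb e) := by
    intro X hX
    have h3 := map_comap_emb e hX.1.1
    rw [← h3] at hX ⊢
    exact Subgroup.map_mono (le_iSup (fun A : {A : Subgroup B // Opt p (⊤ : Subgroup B) f A} => A.1)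
      ⟨_, (opt_emb_iff e).1 hX⟩)
  have hbb : Opt p P f (bb p A) := (h.base.opt_spec h.opt h.out).1
  have hbb' : Opt p P f (GN.cj g (bb p A)) :=
    ⟨h.famB', fun X hX => (hbb.2 X hX).trans (om_map _ (MulAut.conj g).injective _).ge⟩
  refine descend hp2 hE (Cfsg.pResidual p G) (map_emb_le e _) (emb_normalizer e (char_of_mapE map_optJoin))
    ?_ ?_
  · obtain ⟨-, ⟨P0, hP0⟩, -⟩ := id hE
    exact PushingUpCL.eq_top_of_forall P0 (hP0 ▸ le_sup_right) fun y hy =>
      mem_sup_left (subset_closure hy)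
  · rintro x ⟨hxL, hxP⟩
    obtain ⟨a, ha, y, hy, rfl⟩ := h.base.exists_split h.opt.1 h.out hxP
    refine mul_mem (hle A h.opt ha) ((sup_le (hle _ hbb) (hle _ hbb') : mm p A g ≤ _)
      (h.toFrame.EM_inf_Q ⟨?_, hy⟩))
    have h1 := mul_mem (inv_mem (mem_sup_left (mem_sup_left ha) : a ∈ ee A g ⊔ mm p A g))
      (h.toFrame.pResidual_le hxL)
    rwa [inv_mul_cancel_left] at h1

theorem outcome [Nontrivial B] (hp3 : p = 3) (hS : IsPGroup p B) : Outcome B p := by
  have hp2 : p ≠ 2 := by omega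
  by_cases hC : cz B = ⊤
  swap
  · exact Or.inl ⟨_, hC, fun e => center_ne_bot hS (le_bot_iff.1 (e ▸ center_le_centralizer _)),
      cz_char, center_le_centralizer _, desc_cz hp2⟩
  by_cases h2 : Cfsg.IsElementaryAbelian p (center B)
  swap
  · obtain ⟨hp', -⟩ := pair_power hS h2
    exact Or.inr (Or.inl ⟨_, hp'.ne1, hp'.char1, hp'.le1, cent_power h2 hC⟩)
  obtain ⟨Q0, hQ0⟩ := exists_isCentrallyLarge (S := B)
  obtain ⟨Q, -, hQ⟩ := exists_isMinimalCentrallyLarge hQ0
  by_cases hab : IsMulCommutative ↥Q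
  swap
  · exact outcome_derived hp2 hS hQ hab
  have hiff := (S3007.result B hS Q Q hQ hQ).2.2.2.2 hab
  have hQm := (hiff Q).1 hQ
  have hJ : Cfsg.thompsonSubgroupA B = ⊤ := by
    rw [eq_top_iff, ← hC]
    exact (CentrallyLargeReplacement.centralizer_centerThompson_le hQ.1).trans (sup_le (le_sSup hQm) le_rfl)
  by_cases hs : s0Sub p B = ⊥
  · refine Or.inr (Or.inr ⟨hJ, ?_⟩)
    rw [s0Sub, if_neg hp2, if_pos hp3, sup_eq_bot_iff] at hs
    have := hS.isNilpotent
    exact eq_bot_iff.2 ((commutator_mono (commutator_mono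
      (Coprime.commutator_le_frattini B) le_rfl) le_rfl).trans hs.1.le)
  have hjoin : Cfsg.minimalCentrallyLargeJoin B = ⊤ := by
    rw [← hJ]
    exact congrArg sSup (Set.ext fun R => hiff R)
  have htop := minimalCentrallyLargeJoin_large (S := B)
  rw [hjoin] at htop
  set f := Nat.card B * Nat.card ↥(center B)
  have hc : ((⊤ : Subgroup B) ⊓ centralizer ((⊤ : Subgroup B) : Set B)) = center B := by
    rw [top_inf_eq, coe_top, centralizer_univ]
  have hf : Cfsg.maxCentralProduct B = f := by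
    rw [← htop, card_center_eq, card_top, hc]
  have hsq : ∀ A ∈ Cfsg.maxAbelianSubgroups B, Nat.card ↥A * Nat.card ↥A = f := fun A hA => by
    have hcl := ((hiff A).2 hA).1
    rw [Cfsg.IsCentrallyLarge, card_center_eq, hf, centralizer_eq_of_maxAbelian hA, inf_idem] at hcl
    exact hcl
  have hfam' : ∀ A ∈ Cfsg.maxAbelianSubgroups B, Fam (⊤ : Subgroup B) f A := fun A hA =>
    ⟨le_top, fun a ha b hb => congrArg Subtype.val (hA.1.is_comm.comm ⟨a, ha⟩ ⟨b, hb⟩), hsq A hA⟩
  have hR : Res p (⊤ : Subgroup B) f := by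
    refine ⟨fun R _ => ?_, ⟨le_top, ?_⟩, fun z hz => ?_, fun H hH => ?_⟩
    · rw [cS_top, ← hf, maxCentralProduct_eq]; exact card_mul_centralizer_le R
    · rw [cS, hc, card_top]
    · refine h2.2 z ?_
      rwa [cS, hc] at hz
    · rw [← hJ]; exact sSup_le fun A hA => hH A (hfam' A hA)
  haveI : (s0Sub p B).Characteristic := char_of_mapE map_s0Sub
  have hj : (optJoin p B f).Characteristic := char_of_mapE map_optJoin
  obtain ⟨A0, hA0, hmax⟩ := Set.exists_max_image {A : Subgroup B | Fam ⊤ f A} (om p) (Set.toFinite _)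
    ⟨Q, hfam' Q hQm⟩
  have hA0le : A0 ≤ optJoin p B f := le_iSup (fun A : {A : Subgroup B // Opt p (⊤ : Subgroup B) f A} => A.1)
    ⟨A0, hA0, hmax⟩
  by_cases hO : optJoin p B f = ⊤
  · refine Or.inr (Or.inl ⟨xSub p B f, fun hX => inf_center_ne_bot' hS hs
      (le_bot_iff.1 ((s0_inf_le hR hX).trans hX.le)), xSub_char, fun z hz => hz.1, ?_⟩)
    intro G _ _ P e hE hnc
    rintro _ ⟨z, hz, rfl⟩ g
    refine hz.2 G P e hE (fun hn => ?_) g
    rw [hO, map_emb_top] at hn
    exact not_le_core hE (Cfsg.Agent.CharP.le_pCore hn (PushingUpMCL.isPGroup hE))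
  · have hcA : center B ≤ A0 := fun z hz => by
      have h1 := (hA0.mem hR.bound).2
      rw [← h1, cS_top]
      exact center_le_centralizer _ hz
    refine Or.inl ⟨_, hO, fun e0 => center_ne_bot hS (le_bot_iff.1 ((hcA.trans hA0le).trans e0.le)),
      hj, hcA.trans hA0le, desc_opt hp2 hR⟩

end Cfsg.Agent.GenA.TwoNorm
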