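import Cfsg.Agent.Lib.PLocal.Omega
import Cfsg.Agent.Lib.PLocal.Cores
import Cfsg.Prelude.Def_LocalEven
import Cfsg.Prelude.Def_BaumannBlocks
import Mathlib.GroupTheory.Sylow
import Mathlib.GroupTheory.Index

/-!
If the elements of order `p` in the centre of a Sylow subgroup of a constrained group are central, so is
the whole centre: average a central element of the Sylow subgroup over its cosets.
-/

set_option autoImplicit false
set_option linter.unusedSectionVars false
set_option linter.style.haveILetI false

namespace Cfsg.Agent.GenA.TwoNorm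

open Subgroup

variable {G : Type*} [Group G] [Finite G] {p : ℕ} [hp : Fact p.Prime]

theorem central_of_omega (hc : centralizer (Cfsg.pCore p G : Set G) ≤ Cfsg.pCore p G) (S : Sylow p G)
    (h : centralizer (Cfsg.omegaOneCenter p (S : Subgroup G) : Set G) = ⊤) :
    ∀ z ∈ (S : Subgroup G) ⊓ centralizer ((S : Subgroup G) : Set G), ∀ g : G, g * z = z * g := by
  set Q := Cfsg.pCore p G
  have hQS : Q ≤ (S : Subgroup G) := Cfsg.Agent.PLocal.Cores.pCore_le_sylow S
  have hQn : Q.Normal := Cfsg.Agent.PLocal.Cores.pCore_normal'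
  have key : ∀ z ∈ (S : Subgroup G) ⊓ centralizer ((S : Subgroup G) : Set G),
      z ^ p ∈ center G → z ∈ center G := by
    intro z hz hzp
    set Y := Q ⊓ centralizer (Q : Set G)
    letI : CommGroup ↥Y := { (inferInstance : Group ↥Y) with
      mul_comm := fun a b => Subtype.ext (b.2.2 (a : G) a.2.1) }
    have hzQ : z ∈ centralizer (Q : Set G) := centralizer_le (SetLike.coe_subset_coe.2 hQS) hz.2
    let z' : ↥Y := ⟨z, hc hzQ, hzQ⟩
    letI : Fintype (G ⧸ (S : Subgroup G)) := Fintype.ofFinite _
    let c : G → MulAut ↥Y := fun g => MulAut.conjNormal g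
    let F : G ⧸ (S : Subgroup G) → ↥Y := fun q => c q.out z'
    have hF : ∀ g : G, F (g : G ⧸ (S : Subgroup G)) = c g z' := by
      intro g
      obtain ⟨s, hs⟩ := QuotientGroup.mk_out_eq_mul (S : Subgroup G) g
      refine Subtype.ext ?_
      show ((c (g : G ⧸ (S : Subgroup G)).out z' : ↥Y) : G) = c g z'
      simp only [c, MulAut.conjNormal_apply, hs, z']
      rw [show g * (s : G) * z = g * z * s by rw [mul_assoc, hz.2 (s : G) s.2, ← mul_assoc]]
      group
    set w : ↥Y := ∏ q, F q with hw
    have hwfix : ∀ g : G, c g w = w := by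
      intro g
      rw [hw, map_prod]
      refine Fintype.prod_equiv (MulAction.toPerm g) _ _ fun q => ?_
      induction q using QuotientGroup.induction_on with
      | _ t =>
        change c g (F (t : G ⧸ (S : Subgroup G))) = F ((g * t : G) : G ⧸ (S : Subgroup G))
        rw [hF, hF]
        exact Subtype.ext (by simp [c, MulAut.conjNormal_apply, mul_assoc])
    set n := Fintype.card (G ⧸ (S : Subgroup G)) with hn
    set v : ↥Y := w * (z' ^ n)⁻¹ with hv
    have hvp : v ^ p = 1 := by
      have h1 : v = ∏ q, F q * z'⁻¹ := by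
        rw [Finset.prod_mul_distrib, Finset.prod_const, Finset.card_univ, ← hn, inv_pow, hv, hw]
      rw [h1, ← Finset.prod_pow]
      refine Finset.prod_eq_one fun q _ => ?_
      rw [mul_pow, inv_pow, ← map_pow, mul_inv_eq_one]
      refine Subtype.ext ?_
      simp only [c, MulAut.conjNormal_apply, SubmonoidClass.coe_pow, z']
      rw [(mem_center_iff.1 hzp q.out), mul_inv_cancel_right]
    have hwc : ((w : ↥Y) : G) ∈ center G := mem_center_iff.2 fun g => by
      have h1 := congrArg Subtype.val (hwfix g)
      simp only [c, MulAut.conjNormal_apply] at h1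
      exact mul_inv_eq_iff_eq_mul.1 h1
    have hvc : ((v : ↥Y) : G) ∈ center G := by
      have hvS : ((v : ↥Y) : G) ∈ Cfsg.omegaOneCenter p (S : Subgroup G) := by
        refine subset_closure ⟨⟨hQS v.2.1, fun s hs => ?_⟩, by simpa using congrArg Subtype.val hvp⟩
        rw [hv]
        push_cast
        exact ((show Commute s (w : G) from mem_center_iff.1 hwc s).mul_right
          ((show Commute s z from hz.2 s hs).pow_right n).inv_right).eq
      exact mem_center_iff.2 fun g => ((h.ge (mem_top g)) _ hvS).symm
    have hzn : z ^ n ∈ center G := by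
      have e : z ^ n = ((v : ↥Y) : G)⁻¹ * (w : G) := by
        rw [hv]; push_cast; group; rfl
      rw [e]
      exact mul_mem (inv_mem hvc) hwc
    have hcop : Nat.Coprime n p := by
      rw [hn, ← Nat.card_eq_fintype_card, Nat.coprime_comm]
      exact hp.out.coprime_iff_not_dvd.2 S.not_dvd_index
    have hbez : (1 : ℤ) = (n : ℤ) * Nat.gcdA n p + (p : ℤ) * Nat.gcdB n p := by
      rw [← Nat.gcd_eq_gcd_ab, hcop.gcd_eq_one]; rfl
    rw [← zpow_one z, hbez, zpow_add, zpow_mul, zpow_mul, zpow_natCast, zpow_natCast]
    exact mul_mem (zpow_mem hzn _) (zpow_mem hzp _)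
  intro z hz
  obtain ⟨k, hk⟩ := IsPGroup.iff_orderOf.1 S.2 ⟨z, hz.1⟩
  rw [orderOf_mk] at hk
  have main : ∀ i, z ^ p ^ (k - i) ∈ center G := by
    intro i
    induction i with
    | zero => rw [Nat.sub_zero, ← hk, pow_orderOf_eq_one]; exact one_mem _
    | succ i ih =>
      by_cases hi : i < k
      · refine key _ (pow_mem hz _) ?_
        rw [← pow_mul, ← pow_succ, show k - (i + 1) + 1 = k - i by omega]
        exact ih
      · rwa [show k - (i + 1) = k - i by omega]
  have h1 := main k
  rw [Nat.sub_self, pow_zero, pow_one] at h1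
  exact fun g => mem_center_iff.1 h1 g

end Cfsg.Agent.GenA.TwoNorm
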