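import Cfsg.Agent.GenA.TwoNorm.Cover
import Cfsg.Agent.GenA.TwoNorm.Central
import Cfsg.Agent.GenA.TF.Quad
import Cfsg.Agent.Lib.PLocal.Natural.Ambient
import Cfsg.Agent.Lib.PLocal.Natural.Offenders
import Cfsg.Agent.Lib.PLocal.BlockLocation
import Cfsg.Agent.Lib.PLocal.Blocks.Offending
import Cfsg.Agent.Lib.CharP.Parabolic
import Cfsg.Agent.Lib.Transfer.NormalPComplement
import Cfsg.Prelude.Def_LocalEven

/-!
For odd `p`, a constrained group with one maximal subgroup over a Sylow subgroup `S`, in which no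
characteristic subgroup of `S` is normal: some element of `S` outside the core is quadratic on each
chief factor in the core.
-/

set_option autoImplicit false
set_option linter.unusedSectionVars false
set_option linter.style.longLine false
set_option maxHeartbeats 1600000

namespace Cfsg.Agent.GenA.TwoNorm

open Cfsg.Lib.Offender Cfsg.Agent.FFNatural Cfsg.Agent.PLocal.ThompsonSubgroup Cfsg.Agent.GenA.TF
open scoped commutatorElement MatrixGroups

universe u

variable {G : Type u} [Group G] [Finite G] {p : ℕ} [Fact p.Prime]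

theorem exists_quadratic (hp : p ≠ 2) (hG : Subgroup.centralizer (Cfsg.pCore p G : Set G) ≤ Cfsg.pCore p G)
    (S : Sylow p G) (M : Subgroup G) (hM : M ≠ ⊤)
    (hle_M : ∀ X : Subgroup G, (S : Subgroup G) ≤ X → X ≠ ⊤ → X ≤ M)
    (hnc : ¬ ∀ z ∈ (S : Subgroup G) ⊓ Subgroup.centralizer ((S : Subgroup G) : Set G), ∀ g : G, g * z = z * g)
    (K0 : Subgroup ↥(Cfsg.baumannSubgroupOf p (S : Subgroup G))) (hK0c : K0.Characteristic)
    (hgood : GoodK p K0)
    (hK0 : ¬ (K0.map (Cfsg.baumannSubgroupOf p (S : Subgroup G)).subtype).Normal) :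
    HasQuad p (S : Subgroup G) := by
  classical
  have hpp : p.Prime := Fact.out
  set Q := Cfsg.pCore p G with hQdef
  have hQn : Q.Normal := Subgroup.sSup_normal _ (fun _ h => h.1)
  have hQp : IsPGroup p Q := Sylow.sSup_of_normal _ (fun _ h => h.2) (fun _ h => h.1)
  have hQS : Q ≤ (S : Subgroup G) := hQp.le_sylow_of_normal S
  have hSne : (S : Subgroup G) ≠ ⊥ := by
    intro e
    refine hM (top_le_iff.1 fun g _ => ?_)
    have hQ : Q = ⊥ := le_bot_iff.1 (hQS.trans e.le)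
    have h1 : g ∈ Subgroup.centralizer (Q : Set G) := fun y hy => by
      rw [hQ] at hy; rw [Subgroup.mem_bot.1 hy, one_mul, mul_one]
    have h2 := hG h1
    rw [hQ, Subgroup.mem_bot] at h2
    rw [h2]; exact one_mem M
  set B0 := Cfsg.baumannSubgroupOf p (S : Subgroup G) with hB0
  have hNB : Subgroup.normalizer ((S : Subgroup G) : Set G) ≤ Subgroup.normalizer (B0 : Set G) := by
    have h1 := normalizer_le_char (MulEquiv.refl ↥(S : Subgroup G)) (baumann_char p (S : Subgroup G))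
    rwa [show GN.emb (MulEquiv.refl ↥(S : Subgroup G)) = (S : Subgroup G).subtype from rfl,
      Subgroup.map_subgroupOf_eq_of_le (show B0 ≤ (S : Subgroup G) from inf_le_left)] at h1
  have hBn : ¬ B0.Normal := fun h => hK0 (Subgroup.normalizer_eq_top_iff.1 (top_le_iff.1
    ((Subgroup.normalizer_eq_top_iff.2 h).ge.trans (normalizer_le_char (MulEquiv.refl ↥B0) hK0c))))
  have hSnn : ¬ (S : Subgroup G).Normal := fun h => hBn (Subgroup.normalizer_eq_top_iff.1 (top_le_iff.1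
    ((Subgroup.normalizer_eq_top_iff.2 h).ge.trans hNB)))
  have hSM : (S : Subgroup G) ≤ M := hle_M _ le_rfl fun e => hSnn (e ▸ inferInstance)
  have hMc : IsCoatom M := ⟨hM, fun Y hY => by
    by_contra hne
    exact hY.not_ge (hle_M Y (hSM.trans hY.le) hne)⟩
  -- `Z = Ω₁(Z(J(S)))`
  set J := Cfsg.thompsonSubgroupOf p (S : Subgroup G) with hJdef
  set Z := Cfsg.omegaOne p (Cfsg.centerThompsonOf p (S : Subgroup G)) with hZdef
  have hJS : J ≤ (S : Subgroup G) := thompsonSubgroupOf_le _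
  have hZJ : Z ≤ J := (PLocal.Omega.omegaOne_le _).trans inf_le_left
  have hZS : Z ≤ (S : Subgroup G) := hZJ.trans hJS
  have hZc : Z ≤ Subgroup.centralizer (J : Set G) := (PLocal.Omega.omegaOne_le _).trans inf_le_right
  have hSJ : (S : Subgroup G) ≤ Subgroup.normalizer (J : Set G) :=
    Subgroup.le_normalizer.trans (normalizer_le_normalizer_thompsonSubgroupOf (S : Subgroup G))
  have hSZ : (S : Subgroup G) ≤ Subgroup.normalizer (Z : Set G) :=
    hSJ.trans ((PLocal.BlockBasic.le_normalizer_centerThompsonOf _).trans (PLocal.BlockBasic.le_normalizer_omegaOne _))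
  have hZab : ∀ a ∈ Z, ∀ b ∈ Z, a * b = b * a := fun a ha b hb => hZc hb a (hZJ ha)
  by_cases hZQ : ¬ Z ≤ Q
  · obtain ⟨u, huZ, huQ⟩ := SetLike.not_le_iff_exists.1 hZQ
    refine ⟨u, hZS huZ, huQ, fun U U' hch hU => ?_⟩
    have hu : Subgroup.zpowers u ≤ Z := Subgroup.zpowers_le.2 huZ
    refine le_trans ?_ bot_le
    calc ⁅⁅U, Subgroup.zpowers u⁆, Subgroup.zpowers u⁆ ≤ ⁅⁅Q, Z⁆, Z⁆ :=
          Subgroup.commutator_mono (Subgroup.commutator_mono hU hu) hu
      _ ≤ ⁅Z, Z⁆ := Subgroup.commutator_mono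
          (Subgroup.le_normalizer_iff_commutator_le_right.1 (hQS.trans hSZ)) le_rfl
      _ = ⊥ := Subgroup.commutator_eq_bot_iff_le_centralizer.2 fun a ha b hb => hZab b hb a ha
  rw [not_not] at hZQ
  -- `V = Ω₁(Z(Q))`
  set V := Cfsg.omegaOneCenter p Q with hVdef
  set C := Subgroup.centralizer (V : Set G) with hCdef
  set ZS := Cfsg.omegaOneCenter p (S : Subgroup G) with hZS'
  have hVQ : V ≤ Q := PLocal.BlockModule.omegaCenter_le Q
  have hVn : V.Normal := Subgroup.normalizer_eq_top_iff.1 (top_le_iff.1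
    ((Subgroup.normalizer_eq_top (H := Q)).ge.trans (PLocal.BlockModule.le_normalizer_omegaCenter (p := p) Q)))
  have hVel : Cfsg.IsElementaryAbelian p V := isElementaryAbelian_iff.2
    ⟨fun a ha b hb => PLocal.BlockLocation.omegaCenter_comm _ ha hb,
      fun a ha => PLocal.BlockLocation.pow_eq_one_of_mem_omegaCenter _ ha⟩
  have hCn : C.Normal := inferInstance
  have hQC : Q ≤ C := fun x hx v hv =>
    (PLocal.BlockModule.omegaCenter_le_centralizer (p := p) Q hv x hx).symm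
  have hZV : ZS ≤ V := by
    rw [hZS', Cfsg.omegaOneCenter, Cfsg.omegaOne, Subgroup.closure_le]
    rintro x ⟨⟨hxT, hxc⟩, hxp⟩
    have hxQ : x ∈ Subgroup.centralizer (Q : Set G) := fun y hy => hxc y (hQS hy)
    exact Subgroup.subset_closure ⟨⟨hG hxQ, hxQ⟩, hxp⟩
  have hTZ : (S : Subgroup G) ≤ Subgroup.centralizer (ZS : Set G) := by
    rw [Subgroup.le_centralizer_iff]
    exact PLocal.BlockModule.omegaCenter_le_centralizer (p := p) (S : Subgroup G)
  have hCZ : Subgroup.centralizer (ZS : Set G) ≠ ⊤ := fun e => hnc (central_of_omega hG S e)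
  have hCM : C ≤ M := (Subgroup.centralizer_le hZV).trans (hle_M _ hTZ hCZ)
  have hSC : (S : Subgroup G) ⊓ C = Q := le_antisymm
    (le_sSup ⟨normal_inf_sylow S hM hle_M hCM, S.isPGroup'.to_le inf_le_left⟩) (le_inf hQS hQC)
  have hQsyl : CharP.IsSylIn p Q C := hSC ▸
    (CharP.isSylIn_top_iff.2 ⟨S, rfl⟩).inf_normal le_top (by rw [Subgroup.normalizer_eq_top])
  -- an offender
  obtain ⟨A₀, hA₀, hA₀S, hA₀C⟩ : ∃ A ∈ Cfsg.maxElementaryAbelianSubgroups p G, A ≤ (S : Subgroup G) ∧ ¬ A ≤ C := by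
    by_contra hall
    push Not at hall
    obtain ⟨A, hA, hAS⟩ := PLocal.BlockBasic.exists_max_le S
    have hJQ : J ≤ Q := by
      rw [← hSC]
      refine le_inf hJS ?_
      rw [hJdef, Cfsg.thompsonSubgroupOf, Cfsg.thompsonSubgroup, (Subgroup.gc_map_comap _).l_sSup]
      exact iSup₂_le fun B hB => hall _ (map_mem_maxElementaryAbelian hA hAS hB) (Subgroup.map_subtype_le B)
    have hn := normalizer_le_normalizer_thompsonSubgroupOf (p := p) Q
    rw [Subgroup.normalizer_eq_top, thompsonSubgroupOf_eq_of_le_of_le hJQ hQS] at hn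
    haveI hJn : J.Normal := Subgroup.normalizer_eq_top_iff.1 (top_le_iff.1 hn)
    haveI hZn : Z.Normal := Subgroup.normalizer_eq_top_iff.1 (top_le_iff.1
      ((Subgroup.normalizer_eq_top (H := J)).ge.trans ((PLocal.BlockBasic.le_normalizer_centerThompsonOf _).trans
        (PLocal.BlockBasic.le_normalizer_omegaOne _))))
    have hZSZ : ZS ≤ Z := by
      rw [hZS', Cfsg.omegaOneCenter, Cfsg.omegaOne, Subgroup.closure_le]
      rintro x ⟨⟨hxT, hxc⟩, hxp⟩
      have h1 : x ∈ A := mem_of_centralizes hA (fun a ha => hxc a (hAS ha)) hxp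
      exact PLocal.Omega.mem_omegaOne ⟨le_thompsonSubgroupOf hA hAS h1,
        Subgroup.centralizer_le hJS hxc⟩ hxp
    exact hBn (normal_inf_sylow S hM hle_M ((Subgroup.centralizer_le hZSZ).trans (hle_M _ hTZ hCZ)))
  -- the linear group
  have : IsMulCommutative ↥V := hVel.1
  letI : CommGroup ↥V := { (inferInstance : Group ↥V) with mul_comm := fun a b => hVel.1.1.comm a b }
  have hexp : ∀ v : ↥V, v ^ p = 1 := fun v => Subtype.ext (by rw [Subgroup.coe_pow]; exact hVel.2 _ v.2)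
  letI : Module (ZMod p) (Additive ↥V) := AddCommGroup.zmodModule (n := p) (G := Additive ↥V)
    (fun v => congrArg Additive.ofMul (hexp v.toMul))
  let θ : G ⧸ C →* MulAut ↥V := QuotientGroup.lift C (MulAut.conjNormal : G →* MulAut ↥V) fun c hc =>
    MonoidHom.mem_ker.2 (MulEquiv.ext fun v => Subtype.ext (by
      rw [MulAut.conjNormal_apply, ← hc (v : G) v.2, mul_inv_cancel_right]; rfl))
  let f : Representation (ZMod p) (G ⧸ C) (Additive ↥V) := actRep θ
  let q : G →* G ⧸ C := QuotientGroup.mk' C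
  have hqs : Function.Surjective q := QuotientGroup.mk'_surjective C
  let j : Additive ↥V → G := fun w => (w.toMul : G)
  have hjV : ∀ w, j w ∈ V := fun w => w.toMul.2
  have hjonto : ∀ x ∈ V, ∃ w, j w = x := fun x hx => ⟨Additive.ofMul ⟨x, hx⟩, rfl⟩
  have hjinj : Function.Injective j := fun u w e => Additive.toMul.injective (Subtype.ext e)
  have hjadd : ∀ u w, j (u + w) = j u * j w := fun u w => rfl
  have hj0 : j 0 = 1 := rfl
  have hact : ∀ g w, j (f (q g) w) = g * j w * g⁻¹ := fun g w => rfl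
  have hjcomm : ∀ u w, j u * j w = j w * j u := fun u w =>
    (isElementaryAbelian_iff.1 hVel).1 _ (hjV u) _ (hjV w)
  have hqker : q.ker = C := QuotientGroup.ker_mk' C
  have hinj : ∀ g, f g = 1 → g = 1 := by
    intro g hg
    obtain ⟨g, rfl⟩ := hqs g
    refine (QuotientGroup.eq_one_iff g).2 fun v hv => ?_
    obtain ⟨w, rfl⟩ := hjonto v hv
    have h2 := hact g w
    rw [hg] at h2
    exact eq_mul_inv_iff_mul_eq.1 h2
  have hfix : ∀ (A : Subgroup G) w, w ∈ fixed f (A.map q) ↔ j w ∈ Subgroup.centralizer (A : Set G) := by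
    intro A w
    constructor
    · intro h a ha
      have h1 := hact a w
      rw [h _ ⟨a, ha, rfl⟩] at h1
      exact (eq_mul_inv_iff_mul_eq.1 h1).symm
    · rintro h _ ⟨a, ha, rfl⟩
      refine hjinj ?_
      rw [hact, mul_inv_eq_iff_eq_mul]
      exact h a ha
  have hfixcard : ∀ A : Subgroup G, Nat.card ↥(fixed f (A.map q)) =
      Nat.card ↥(V ⊓ Subgroup.centralizer (A : Set G)) := fun A => Nat.card_congr
    { toFun := fun w => ⟨j w.1, hjV w.1, (hfix A w.1).1 w.2⟩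
      invFun := fun v => ⟨Additive.ofMul ⟨v.1, v.2.1⟩, (hfix A _).2 v.2.2⟩
      left_inv := fun w => rfl
      right_inv := fun v => rfl }
  have himg : ∀ A : Subgroup G, Nat.card ↥(A.map q) = C.relIndex A := fun A => by
    have hr : (q.comp A.subtype).range = A.map q := by rw [MonoidHom.range_comp, Subgroup.range_subtype]
    rw [← hr, ← Subgroup.index_ker, ← MonoidHom.comap_ker, hqker]
    rfl
  have hoff : ∀ A ∈ Cfsg.maxElementaryAbelianSubgroups p G, ¬ A ≤ C → IsOff f (A.map q) := by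
    intro A hAmax hAC
    obtain ⟨hab, hexpA⟩ := isElementaryAbelian_iff.1 hAmax.1
    refine ⟨fun e => hAC ?_, ?_, ?_, ?_⟩
    · rw [Subgroup.map_eq_bot_iff, hqker] at e
      exact e
    · rintro _ ⟨a, ha, rfl⟩ _ ⟨b, hb, rfl⟩
      rw [← map_mul, hab a ha b hb, map_mul]
    · rintro _ ⟨a, ha, rfl⟩
      rw [← map_pow, hexpA a ha, map_one]
    · have h1 := PLocal.Blocks.relIndex_le_of_max hAmax hVel
      have h2 := PLocal.Blocks.relIndex_mul_card_inf (Subgroup.centralizer (A : Set G)) V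
      rw [hfixcard, himg, Nat.card_congr Additive.toMul, ← h2]
      exact Nat.mul_le_mul_right _ h1
  let Tb : Sylow p (G ⧸ C) := S.mapSurjective hqs
  have hTb : (Tb : Subgroup (G ⧸ C)) = (S : Subgroup G).map q := rfl
  set Mb := M.map q with hMb
  have hcM : Mb.comap q = M := by rw [hMb, Subgroup.comap_map_eq, hqker, sup_eq_left.2 hCM]
  have hMbc : IsCoatom Mb := by
    refine ⟨fun e => hM (by rw [← hcM, e, Subgroup.comap_top]), fun Y hY => ?_⟩
    have h1 : M < Y.comap q := by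
      rw [← hcM]
      refine lt_of_le_of_ne (Subgroup.comap_mono hY.le) fun e => hY.ne ?_
      exact Subgroup.comap_injective hqs e
    rw [← Subgroup.map_comap_eq_self_of_surjective hqs Y, hMc.2 _ h1, ← MonoidHom.range_eq_map,
      MonoidHom.range_eq_top.2 hqs]
  have hcore : ∀ N : Subgroup (G ⧸ C), N.Normal → IsPGroup p N → N = ⊥ := by
    intro N hN hNp
    set D := N.comap q with hD
    have hDM : D ≤ M := by
      refine le_trans (Subgroup.comap_mono (hTb ▸ hNp.le_sylow_of_normal Tb : N ≤ (S : Subgroup G).map q)) ?_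
      rw [Subgroup.comap_map_eq, hqker]
      exact sup_le hSM hCM
    have hSDQ : (S : Subgroup G) ⊓ D ≤ Q :=
      le_sSup ⟨normal_inf_sylow S hM hle_M hDM, S.isPGroup'.to_le inf_le_left⟩
    have hSD : (S : Subgroup G) ⊓ D ≤ C := hSDQ.trans hQC
    have hnd := PLocal.Omega.not_dvd_relIndex_inf S D
    have h3 : Nat.card ↥N = C.relIndex D := by
      rw [← himg, hD, Subgroup.map_comap_eq_self_of_surjective hqs]
    obtain ⟨k, hk⟩ := IsPGroup.iff_card.1 hNp
    refine Subgroup.eq_bot_of_card_eq N ?_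
    rcases k with _ | k
    · simpa using hk
    · exact absurd ((dvd_pow_self p (Nat.succ_ne_zero k)).trans
        (hk.symm.trans h3 ▸ Subgroup.relIndex_dvd_of_le_left D hSD)) hnd
  obtain ⟨qq, F⟩ := exists_frame (f := f) (T := Tb) (M := Mb) hinj hMbc
    (hTb ▸ Subgroup.map_mono hSM)
    (fun K hK hTK => by
      have h1 : (S : Subgroup G) ≤ K.comap q := Subgroup.map_le_iff_le_comap.1 (hTb ▸ hTK)
      have h2 : K.comap q ≠ ⊤ := fun e =>
        hK.1 (Subgroup.comap_injective hqs (e.trans (Subgroup.comap_top _).symm))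
      have h3 : K ≤ Mb := by
        rw [← Subgroup.map_comap_eq_self_of_surjective hqs K]
        exact Subgroup.map_mono (hle_M _ h1 h2)
      exact ((hK.le_iff.1 h3).resolve_left hMbc.1).symm)
    hcore
    (fun hle => hCZ (top_le_iff.1 fun g _ v hv => by
      have hvT : v ∈ Subgroup.centralizer ((S : Subgroup G) : Set G) :=
        PLocal.BlockModule.omegaCenter_le_centralizer (p := p) (S : Subgroup G) hv
      obtain ⟨w, rfl⟩ := hjonto v (hZV hv)
      have h1 := hle ((hfix _ w).2 hvT) (q g) trivial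
      have h2 := hact g w
      rw [h1] at h2
      exact eq_mul_inv_iff_mul_eq.1 h2))
    ⟨_, hoff A₀ hA₀ hA₀C⟩
  have hT : IsSyl (Tb : Subgroup (G ⧸ C)) (Tb : Subgroup (G ⧸ C)) := ⟨1, cg_one _⟩
  set D := genJoin f qq (Tb : Subgroup (G ⧸ C)) with hDdef
  -- the image of `J`
  have hJle : ∀ H : Subgroup G, (∀ A ∈ Cfsg.maxElementaryAbelianSubgroups p G, A ≤ (S : Subgroup G) → A ≤ H) → J ≤ H := by
    intro H hH
    rw [hJdef, Cfsg.thompsonSubgroupOf, Cfsg.thompsonSubgroup, (Subgroup.gc_map_comap _).l_sSup]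
    exact iSup₂_le fun B hB => hH _ (map_mem_maxElementaryAbelian hA₀ hA₀S hB) (Subgroup.map_subtype_le B)
  have hAD : ∀ A ∈ Cfsg.maxElementaryAbelianSubgroups p G, A ≤ (S : Subgroup G) → A.map q ≤ D := by
    intro A hA hAS
    by_cases hAC : A ≤ C
    · exact ((Subgroup.map_eq_bot_iff A).2 (by rwa [hqker])).le.trans bot_le
    · exact (F.offender_spec hT (hoff A hA hAC) (hTb ▸ Subgroup.map_mono hAS)).1
  obtain ⟨A₁, hA₁, hA₁le⟩ := (F.offender_spec hT (hoff A₀ hA₀ hA₀C) (hTb ▸ Subgroup.map_mono hA₀S)).2.1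
  have hA₁S : A₁ ≤ (Tb : Subgroup (G ⧸ C)) := hA₁le.trans (hTb ▸ Subgroup.map_mono hA₀S)
  have hJD : J.map q = D := by
    refine le_antisymm (Subgroup.map_le_iff_le_comap.2 (hJle _ fun A hA hAS =>
      Subgroup.map_le_iff_le_comap.1 (hAD A hA hAS))) (iSup_le fun B => ?_)
    obtain ⟨s, hs, e⟩ := F.exists_smul_gen hT hA₁ hA₁S B.2.1 B.2.2
    obtain ⟨s, hs', rfl⟩ := hTb.le hs
    rw [← e]
    rintro _ ⟨a, ha, rfl⟩
    obtain ⟨a', ha', rfl⟩ := hA₁le ha
    refine ⟨s * a' * s⁻¹, ?_, by simp⟩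
    exact (Subgroup.mem_normalizer_iff.1 (hSJ hs') a').1 (le_thompsonSubgroupOf hA₀ hA₀S ha')
  -- every offender gives one inside `Q`
  have hnew : ∀ A ∈ Cfsg.maxElementaryAbelianSubgroups p G, A ≤ (S : Subgroup G) →
      (A ⊓ C) ⊔ V ∈ Cfsg.maxElementaryAbelianSubgroups p G := by
    intro A hA hAS
    have hel : Cfsg.IsElementaryAbelian p ((A ⊓ C) ⊔ V : Subgroup G) :=
      IsElementaryAbelian.sup (IsElementaryAbelian.mono hA.1 inf_le_left) hVel inf_le_right
    refine ⟨hel, fun B hB => (hA.2 B hB).trans (le_of_eq ?_)⟩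
    have hI : (A ⊓ C) ⊓ V = V ⊓ Subgroup.centralizer (A : Set G) := by
      refine le_antisymm (fun v hv => ⟨hv.2, fun a ha =>
        (isElementaryAbelian_iff.1 hA.1).1 a ha v hv.1.1⟩) fun v hv => ⟨⟨?_, ?_⟩, hv.1⟩
      · exact mem_of_centralizes hA hv.2 (hVel.2 v hv.1)
      · exact hQC (hVQ hv.1)
    have hV' : Nat.card ↥V = C.relIndex A * Nat.card ↥(V ⊓ Subgroup.centralizer (A : Set G)) := by
      by_cases hAC : A ≤ C
      · rw [Subgroup.relIndex_eq_one.2 hAC, one_mul,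
          inf_eq_left.2 (Subgroup.le_centralizer_iff.1 hAC : V ≤ Subgroup.centralizer (A : Set G))]
      · have h1 := (F.offender_spec hT (hoff A hA hAC) (hTb ▸ Subgroup.map_mono hAS)).2.2
        rwa [Nat.card_congr Additive.toMul, himg, hfixcard] at h1
    have h2 := Cores.card_sup_mul_card_inf (A ⊓ C) V
    have h3 := PLocal.Blocks.relIndex_mul_card_inf C A
    rw [hI, hV'] at h2
    refine (Nat.eq_of_mul_eq_mul_right (Nat.card_pos (α := ↥(V ⊓ Subgroup.centralizer (A : Set G)))) ?_).symm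
    rw [h2, ← h3]
    ring
  have hnewS : ∀ A ∈ Cfsg.maxElementaryAbelianSubgroups p G, A ≤ (S : Subgroup G) →
      (A ⊓ C) ⊔ V ≤ Q := fun A _ hAS => sup_le ((inf_le_inf_right C hAS).trans hSC.le) hVQ
  have hVJ : V ≤ J := (le_sup_right).trans
    (le_thompsonSubgroupOf (hnew A₀ hA₀ hA₀S) ((hnewS A₀ hA₀ hA₀S).trans hQS))
  have hmemZ : ∀ x ∈ (S : Subgroup G), x ∈ Subgroup.centralizer (J : Set G) → x ^ p = 1 → x ∈ Z := by
    intro x hxS hxJ hxp
    have h1 : x ∈ A₀ := mem_of_centralizes hA₀ (fun a ha => hxJ a (le_thompsonSubgroupOf hA₀ hA₀S ha)) hxp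
    exact PLocal.Omega.mem_omegaOne ⟨le_thompsonSubgroupOf hA₀ hA₀S h1, hxJ⟩ hxp
  have hZp : ∀ z ∈ Z, z ^ p = 1 := by
    intro z hz
    have hcl : Z = Subgroup.closure {x : G | x ∈ Cfsg.centerThompsonOf p (S : Subgroup G) ∧ x ^ p = 1} := rfl
    rw [hcl] at hz
    induction hz using Subgroup.closure_induction with
    | mem x hx => exact hx.2
    | one => exact one_pow p
    | mul x y hx hy h1 h2 =>
      rw [(show Commute x y from hZab x (hcl.ge hx) y (hcl.ge hy)).mul_pow, h1, h2, one_mul]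
    | inv x hx h1 => rw [inv_pow, h1, inv_one]
  have hZel : Cfsg.IsElementaryAbelian p Z := isElementaryAbelian_iff.2 ⟨hZab, hZp⟩
  -- the normal closure of `J`
  set Jn := Cfsg.thompsonSubgroup p G with hJndef
  have hJnn : Jn.Normal := ⟨fun x hx g => by
    have := (map_thompsonSubgroup_equiv (p := p) (MulAut.conj g : G ≃* G)).le ⟨x, hx, rfl⟩
    simpa using this⟩
  have hJJn : J ≤ Jn := hJle _ fun A hA _ => le_thompsonSubgroup hA
  have hconjS : ∀ A ∈ Cfsg.maxElementaryAbelianSubgroups p G, ∃ g : G,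
      ∃ B ∈ Cfsg.maxElementaryAbelianSubgroups p G, B ≤ (S : Subgroup G) ∧
        ∀ a ∈ A, ∃ b ∈ B, a = g * b * g⁻¹ := by
    intro A hA
    obtain ⟨T, hT'⟩ := (IsElementaryAbelian.isPGroup hA.1).exists_le_sylow
    obtain ⟨g, hg⟩ := MulAction.exists_smul_eq G T S
    refine ⟨g⁻¹, _, mem_maxElementaryAbelian_map_equiv (MulAut.conj g) hA, ?_,
      fun a ha => ⟨g * a * g⁻¹, ⟨a, ha, rfl⟩, by group⟩⟩
    rw [← hg, Sylow.coe_subgroup_smul]
    exact Subgroup.map_mono hT'
  have hJnS : Jn ⊔ (S : Subgroup G) = ⊤ := by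
    by_contra hne
    have hn := normal_inf_sylow S hM hle_M (le_sup_left.trans (hle_M _ le_sup_right hne) : Jn ≤ M)
    have h1 : (S : Subgroup G) ⊓ Jn ≤ Q := le_sSup ⟨hn, S.isPGroup'.to_le inf_le_left⟩
    exact hA₀C ((le_inf hA₀S (le_thompsonSubgroup hA₀)).trans (h1.trans hQC))
  -- commutators with `Z`
  have hgen : ∀ A ∈ Cfsg.maxElementaryAbelianSubgroups p G, ∀ x ∈ A, ∀ z ∈ Z,
      ∃ v, x * z * x⁻¹ * z⁻¹ = j (f (q x) v - v) := by
    intro A hA x hx z hz
    obtain ⟨g, B, hB, hBS, hB'⟩ := hconjS A hA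
    obtain ⟨b, hb, rfl⟩ := hB' x hx
    set A' := ((B ⊓ C) ⊔ V).map (MulAut.conj g).toMonoidHom with hA'
    have hA'Q : A' ≤ Q := by
      refine (Subgroup.map_mono (hnewS B hB hBS)).trans ?_
      rintro _ ⟨y, hy, rfl⟩
      exact hQn.conj_mem y hy g
    have hA'max := mem_maxElementaryAbelian_map_equiv (MulAut.conj g) (hnew B hB hBS)
    have hzA : z ∈ A' := mem_of_centralizes hA'max
      (fun a ha => hZc hz a (le_thompsonSubgroupOf hA'max (hA'Q.trans hQS) ha)) (hZp z hz)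
    obtain ⟨y, hy, rfl⟩ := hzA
    obtain ⟨c, hc, v, hv, rfl⟩ := Subgroup.mem_sup_of_normal_right.1 hy
    obtain ⟨w, hw⟩ := hjonto (g * v * g⁻¹) (hVn.conj_mem v hv g)
    refine ⟨w, ?_⟩
    have hbc : b * c = c * b := (isElementaryAbelian_iff.1 hB.1).1 b hb c hc.1
    have hbv : b * v * b⁻¹ * v⁻¹ ∈ V := V.mul_mem (hVn.conj_mem v hv b) (V.inv_mem hv)
    have hcv : (b * v * b⁻¹ * v⁻¹) * c = c * (b * v * b⁻¹ * v⁻¹) := hc.2 _ hbv
    rw [sub_eq_add_neg, hjadd, hact, show j (-w) = (j w)⁻¹ from rfl, hw]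
    rw [MulEquiv.coe_toMonoidHom, MulAut.conj_apply]
    calc g * b * g⁻¹ * (g * (c * v) * g⁻¹) * (g * b * g⁻¹)⁻¹ * (g * (c * v) * g⁻¹)⁻¹
        = g * ((b * c) * v * b⁻¹ * v⁻¹ * c⁻¹) * g⁻¹ := by group
      _ = g * (c * (b * v * b⁻¹ * v⁻¹) * c⁻¹) * g⁻¹ := by rw [hbc]; group
      _ = g * (b * v * b⁻¹ * v⁻¹) * g⁻¹ := by rw [← hcv, mul_inv_cancel_right]
      _ = g * b * g⁻¹ * (g * v * g⁻¹) * (g * b * g⁻¹)⁻¹ * (g * v * g⁻¹)⁻¹ := by group
  have hJnV : ∀ x ∈ Jn, ∀ z ∈ Z, x * z * x⁻¹ * z⁻¹ ∈ V := by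
    have h1 : Jn ≤ (Subgroup.centralizer ((Z.map (QuotientGroup.mk' V) : Subgroup (G ⧸ V)) : Set (G ⧸ V))).comap
        (QuotientGroup.mk' V) := by
      refine sSup_le fun A hA x hx => ?_
      rintro _ ⟨z, hz, rfl⟩
      obtain ⟨v, hv⟩ := hgen A hA x hx z hz
      refine (mul_inv_eq_iff_eq_mul.1 (mul_inv_eq_one.1 ?_)).symm
      rw [← map_inv, ← map_inv, ← map_mul, ← map_mul, ← map_mul]
      exact (QuotientGroup.eq_one_iff _).2 (hv ▸ hjV _)
    intro x hx z hz
    have h2 : QuotientGroup.mk' V z * QuotientGroup.mk' V x = QuotientGroup.mk' V x * QuotientGroup.mk' V z :=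
      h1 hx _ ⟨z, hz, rfl⟩
    refine (QuotientGroup.eq_one_iff _).1 ?_
    show QuotientGroup.mk' V (x * z * x⁻¹ * z⁻¹) = 1
    rw [map_mul, map_mul, map_mul, map_inv, map_inv, ← h2, mul_inv_cancel_right, mul_inv_cancel]
  set W := Z ⊔ V with hWdef
  have hZcV : Z ≤ Subgroup.centralizer (V : Set G) := hZQ.trans hQC
  have hWel : Cfsg.IsElementaryAbelian p W := IsElementaryAbelian.sup hZel hVel hZcV
  have hWab := (isElementaryAbelian_iff.1 hWel).1
  have hWn : W.Normal := by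
    refine Subgroup.normalizer_eq_top_iff.1 (top_le_iff.1 ?_)
    rw [← hJnS]
    refine sup_le (fun x hx => cg_eq_iff.1 (Subgroup.eq_of_le_of_card_ge ?_ (card_cg x W).ge)) ?_
    · rw [cg, hWdef, Subgroup.map_sup]
      refine sup_le ?_ ((le_of_eq ?_).trans le_sup_right)
      · rintro _ ⟨z, hz, rfl⟩
        have e : (MulAut.conj x).toMonoidHom z = (x * z * x⁻¹ * z⁻¹) * z := by simp
        rw [e]
        exact mul_mem (Subgroup.mem_sup_right (hJnV x hx z hz)) (Subgroup.mem_sup_left hz)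
      · exact cg_eq_iff.2 (by rw [Subgroup.normalizer_eq_top]; trivial)
    · intro x hx
      rw [← cg_eq_iff, hWdef, cg_sup, cg_eq_iff.2 (hSZ hx), cg_eq_iff.2 (show x ∈ Subgroup.normalizer (V : Set G) by
        rw [Subgroup.normalizer_eq_top]; trivial)]
  -- the involution
  obtain ⟨τ, hτN, hτ2, hτc, hτfix⟩ := exists_minus F hp hT
  set N := ⨆ A : {A : Subgroup (G ⧸ C) // Gen f qq A ∧ A ≤ (Tb : Subgroup (G ⧸ C))},
    FFNatural.blockOf f qq (Tb : Subgroup (G ⧸ C)) (A : Subgroup (G ⧸ C)) with hNdef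
  have hNn : N.Normal := (F.blocks_normal hT).1
  have hDN : D ≤ N := iSup_le fun A => (F.block_spec hT A.2.1 A.2.2).1.le.trans (le_iSup_of_le A le_rfl)
  have hJnN : Jn.map q = N := by
    refine le_antisymm (Subgroup.map_le_iff_le_comap.2 (sSup_le fun A hA x hx => ?_)) ?_
    · obtain ⟨g, B, hB, hBS, hB'⟩ := hconjS A hA
      obtain ⟨b, hb, rfl⟩ := hB' x hx
      show q (g * b * g⁻¹) ∈ N
      rw [map_mul, map_mul, map_inv]
      exact hNn.conj_mem _ (hDN (hAD B hB hBS ⟨b, hb, rfl⟩)) _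
    · exact F.blocks_le hT (Subgroup.Normal.map hJnn _ hqs) hA₁ hA₁S
        (hA₁le.trans (Subgroup.map_mono (le_thompsonSubgroup hA₀)))
  -- `C ∩ Jn` moves `Z` only by vectors centralised by `Jn`
  have hW2n : (⁅W, Q ⊓ Jn⁆ : Subgroup G).Normal := inferInstance
  have hW2le : ⁅W, Q ⊓ Jn⁆ ≤ V ⊓ Z := by
    rw [Subgroup.commutator_le]
    intro w hw c hc
    obtain ⟨z, hz, v, hv, rfl⟩ := Subgroup.mem_sup_of_normal_right.1 hw
    have hvc : v * c = c * v := hQC hc.1 v hv
    have e : ⁅z * v, c⁆ = (c * z * c⁻¹ * z⁻¹)⁻¹ := by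
      rw [commutatorElement_def]
      calc z * v * c * (z * v)⁻¹ * c⁻¹ = z * (v * c) * v⁻¹ * z⁻¹ * c⁻¹ := by group
        _ = (c * z * c⁻¹ * z⁻¹)⁻¹ := by rw [hvc]; group
    rw [e]
    exact ⟨V.inv_mem (hJnV c hc.2 z hz), Z.inv_mem (Z.mul_mem
      ((Subgroup.mem_normalizer_iff.1 (hSZ (hQS hc.1)) z).1 hz) (Z.inv_mem hz))⟩
  have hW2c : Jn ≤ Subgroup.centralizer ((⁅W, Q ⊓ Jn⁆ : Subgroup G) : Set G) := by
    refine sSup_le fun A hA x hx => ?_
    obtain ⟨g, B, hB, hBS, hB'⟩ := hconjS A hA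
    obtain ⟨b, hb, rfl⟩ := hB' x hx
    have hCn' : (Subgroup.centralizer ((⁅W, Q ⊓ Jn⁆ : Subgroup G) : Set G)).Normal := inferInstance
    exact hCn'.conj_mem _ (fun y hy => (hZc (hW2le hy).2 b (le_thompsonSubgroupOf hB hBS hb)).symm) g
  set m := Q.relIndex C with hm
  have hmp : Nat.Coprime m p := ((hpp.coprime_iff_not_dvd).2 (by
    rw [hm, ← hSC]; exact PLocal.Omega.not_dvd_relIndex_inf S C)).symm
  have hsmall : ∀ c ∈ C ⊓ Jn, ∀ z ∈ Z, ∀ y ∈ Jn,
      y * (c * z * c⁻¹ * z⁻¹) = (c * z * c⁻¹ * z⁻¹) * y := by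
    intro c hc z hz
    set t := c * z * c⁻¹ * z⁻¹ with ht
    have htV : t ∈ V := hJnV c hc.2 z hz
    have hct : c * t * c⁻¹ = t := by rw [← hc.1 t htV, mul_inv_cancel_right]
    have hpow : ∀ n : ℕ, c ^ n * z * (c ^ n)⁻¹ * z⁻¹ = t ^ n := by
      intro n
      induction n with
      | zero => simp
      | succ n ih =>
        have hctn : c * t ^ n * c⁻¹ = t ^ n := by rw [← conj_pow, hct]
        calc c ^ (n + 1) * z * (c ^ (n + 1))⁻¹ * z⁻¹
            = c * (c ^ n * z * (c ^ n)⁻¹ * z⁻¹) * c⁻¹ * (c * z * c⁻¹ * z⁻¹) := by rw [pow_succ']; group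
          _ = t ^ (n + 1) := by rw [ih, hctn, ← ht, pow_succ]
    have hcm : c ^ m ∈ Q ⊓ Jn := by
      refine ⟨?_, Jn.pow_mem hc.2 m⟩
      have : (Q.subgroupOf C).Normal := inferInstance
      exact Subgroup.mem_subgroupOf.1 ((Q.subgroupOf C).pow_index_mem ⟨c, hc.1⟩)
    have htm : t ^ m ∈ ⁅W, Q ⊓ Jn⁆ := by
      rw [← hpow, Subgroup.commutator_comm]
      exact Subgroup.commutator_mem_commutator hcm (Subgroup.mem_sup_left hz)
    have hbez : (1 : ℤ) = (m : ℤ) * Nat.gcdA m p + (p : ℤ) * Nat.gcdB m p := by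
      rw [← Nat.gcd_eq_gcd_ab, hmp.gcd_eq_one]; rfl
    have htz : t ∈ ⁅W, Q ⊓ Jn⁆ := by
      rw [← zpow_one t, hbez, zpow_add, zpow_mul, zpow_mul, zpow_natCast, zpow_natCast, hVel.2 t htV,
        one_zpow, mul_one]
      exact Subgroup.zpow_mem _ htm _
    exact fun y hy => (hW2c hy t htz).symm
  -- the splitting of `Z`
  set Wc := W ⊓ Subgroup.centralizer (Jn : Set G) with hWc
  obtain ⟨g0, hg0, hg0τ⟩ := hJnN.ge hτN
  have hsplit : ∀ z ∈ Z, ∃ v ∈ V, v ∈ Subgroup.centralizer (J : Set G) ∧ v⁻¹ * z ∈ Wc := by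
    intro z hz
    choose φ hφ using fun x : ↥Jn => hjonto _ (hJnV x x.2 z hz)
    have hcoc : ∀ x y : ↥Jn, φ (x * y) = f (q x) (φ y) + φ x := fun x y => hjinj (by
      rw [hjadd, hact, hφ, hφ, hφ, Subgroup.coe_mul]; group)
    set w := φ ⟨g0, hg0⟩ with hw
    let k := (p - 1) / 2
    have hk : p = 2 * k + 1 := by
      obtain ⟨i, hi⟩ := hpp.odd_of_ne_two hp
      simp only [k]; omega
    have hminus : ∀ n ∈ N, ∀ u, f τ (f n u - u) = -(f n u - u) := by
      intro n hn u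
      have h1 : f τ u + u ∈ fixed f N := hτfix _ (by rw [map_add, ← mul_app, hτ2, map_one, Module.End.one_apply, add_comm])
      have h2 := h1 n hn
      rw [map_add, ← mul_app, ← hτc n hn, mul_app] at h2
      rw [map_sub, eq_neg_iff_add_eq_zero, ← sub_eq_zero.2 h2]
      abel
    have hkey : ∀ (A : Subgroup G) (hA : A ∈ Cfsg.maxElementaryAbelianSubgroups p G), ∀ x (hx : x ∈ A),
        φ ⟨x, le_thompsonSubgroup hA hx⟩ = f (q x) (k • w) - k • w := by
      intro A hA x hx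
      set x' : ↥Jn := ⟨x, le_thompsonSubgroup hA hx⟩ with hx'
      set g' : ↥Jn := ⟨g0, hg0⟩ with hg'
      obtain ⟨v, hv⟩ := hgen A hA x hx z hz
      have hφx : φ x' = f (q x) v - v := hjinj ((hφ x').trans hv)
      have hxN : q x ∈ N := hJnN.le ⟨x, le_thompsonSubgroup hA hx, rfl⟩
      have hc0C : (x * g0 * x⁻¹ * g0⁻¹) ∈ C ⊓ Jn := by
        refine ⟨(QuotientGroup.eq_one_iff _).1 ?_, Jn.mul_mem (hJnn.conj_mem _ hg0 x) (Jn.inv_mem hg0)⟩
        show q (x * g0 * x⁻¹ * g0⁻¹) = 1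
        rw [map_mul, map_mul, map_mul, map_inv, map_inv, hg0τ, ← hτc _ hxN]
        group
      set c0 : ↥Jn := x' * g' * x'⁻¹ * g'⁻¹ with hc0
      have hc0v : ∀ u, f (q (c0 : G)) u = u := fun u => by
        rw [show q (c0 : G) = 1 from (QuotientGroup.eq_one_iff _).2 hc0C.1, map_one]; rfl
      have e1 : φ (x' * g') = φ (c0 * (g' * x')) := congrArg φ (by rw [hc0]; group)
      rw [hcoc, hcoc, hcoc, hc0v] at e1
      -- `φ c0` is fixed by `τ`
      have hfix0 : f τ (φ c0) = φ c0 := hjinj (by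
        rw [← hg0τ, hact, hφ, mul_inv_eq_iff_eq_mul]
        exact hsmall _ hc0C z hz g0 hg0)
      have hmx : f τ (φ x') = -φ x' := by rw [hφx]; exact hminus _ hxN v
      have hmw := hminus _ hxN w
      have hτx : f (q (g' : G)) (φ x') = -φ x' := by rw [show q (g' : G) = τ from hg0τ]; exact hmx
      rw [hτx] at e1
      have e2 : φ c0 = (f (q (x' : G)) w - w) + (φ x' + φ x') := by
        rw [show φ c0 = (f (q (x' : G)) w + φ x') - (-φ x' + w) by rw [hw, e1]; abel]
        abel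
      have h0 : φ c0 = 0 := by
        refine eq_zero_of_double hpp hp ?_ (p_smul _)
        nth_rewrite 1 [← hfix0]
        rw [e2, map_add, map_add, hmx, show f τ (f (q (x' : G)) w - w) = -(f (q (x' : G)) w - w) from hmw]
        abel
      rw [h0] at e2
      have h3 : k • (f (q (x' : G)) w - w) + (2 * k) • φ x' = 0 := by
        rw [mul_comm, mul_smul, two_nsmul, ← nsmul_add, ← e2, smul_zero]
      have h4 : (2 * k) • φ x' + φ x' = 0 := by
        rw [← succ_nsmul, ← hk]; exact p_smul _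
      rw [map_nsmul, ← nsmul_sub]
      show φ x' = k • (f (q (x' : G)) w - w)
      have h5 : φ x' = k • (f (q (x' : G)) w - w) := by
        calc φ x' = ((2 * k) • φ x' + φ x') - (k • (f (q (x' : G)) w - w) + (2 * k) • φ x') +
              k • (f (q (x' : G)) w - w) := by abel
          _ = _ := by rw [h4, h3, sub_zero, zero_add]
      exact h5
    set v1 := j (k • w) with hv1
    have hc : v1⁻¹ * z ∈ Subgroup.centralizer (Jn : Set G) := by
      have h1 : Jn ≤ Subgroup.centralizer {v1⁻¹ * z} := sSup_le fun A hA x hx => by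
        have hk' := congrArg j (hkey A hA x hx)
        rw [hφ, sub_eq_add_neg, hjadd, hact, show j (-(k • w)) = (v1)⁻¹ from rfl, ← hv1] at hk'
        simp only at hk'
        have h2 : x * z * x⁻¹ = x * v1 * x⁻¹ * v1⁻¹ * z := by
          rw [← hk']; group
        rw [Subgroup.mem_centralizer_singleton_iff, ← mul_inv_eq_iff_eq_mul]
        calc x * (v1⁻¹ * z) * x⁻¹ = (x * v1 * x⁻¹)⁻¹ * (x * z * x⁻¹) := by group
          _ = v1⁻¹ * z := by rw [h2]; group
      exact fun y hy => ((h1 hy) _ rfl).symm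
    refine ⟨v1, hjV _, fun y hy => ?_, ⟨mul_mem (Subgroup.inv_mem _ (Subgroup.mem_sup_right (hjV _)))
      (Subgroup.mem_sup_left hz), hc⟩⟩
    have h2 : y * (v1⁻¹ * z) = v1⁻¹ * z * y := hc y (hJJn hy)
    have h3 : y * z = z * y := hZc hz y hy
    have h4 : y * v1⁻¹ = v1⁻¹ * y := mul_right_cancel (b := z) (by
      rw [mul_assoc, h2, mul_assoc, ← h3, mul_assoc])
    calc y * v1 = v1 * (v1⁻¹ * y) * v1 := by group
      _ = v1 * (y * v1⁻¹) * v1 := by rw [h4]
      _ = v1 * y := by group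
  have hWcn : Wc.Normal := inferInstance
  set G0 := Subgroup.centralizer (Wc : Set G) with hG0
  have hJnG0 : Jn ≤ G0 := fun x hx y hy => (hy.2 x hx).symm
  have hWcZ : Wc ≤ Z := fun w hw => hmemZ w ((sup_le hZS (hVQ.trans hQS) : W ≤ _) hw.1)
    (Subgroup.centralizer_le hJJn hw.2) ((isElementaryAbelian_iff.1 hWel).2 w hw.1)
  set B := Cfsg.baumannSubgroupOf p (S : Subgroup G) with hBdef
  have hBG0 : B ≤ G0 := inf_le_right.trans (Subgroup.centralizer_le hWcZ)
  have hmemB : ∀ x ∈ (S : Subgroup G), x ∈ G0 →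
      (∀ v ∈ V, v ∈ Subgroup.centralizer (J : Set G) → v * x = x * v) → x ∈ B := by
    intro x hxS hx0 hxV
    refine ⟨hxS, fun z hz => ?_⟩
    obtain ⟨v, hv, hvJ, hvW⟩ := hsplit z hz
    have h1 : Commute x v := (hxV v hv hvJ).symm
    have h2 : Commute x (v⁻¹ * z) := (hx0 _ hvW).symm
    have h3 := h1.mul_right h2
    rw [mul_inv_cancel_left] at h3
    exact h3.eq.symm
  have hQ0n : (Q ⊓ G0).Normal := inferInstance
  have hQ0B : Q ⊓ G0 ≤ B := fun x hx => hmemB x (hQS hx.1) hx.2 fun v hv _ => hQC hx.1 v hv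
  have hJB : J ≤ B := PLocal.BlockBasic.thompson_le_baumann _
  have hBD : B.map q = D := by
    refine le_antisymm ?_ (hJD.ge.trans (Subgroup.map_mono hJB))
    rintro _ ⟨b, hb, rfl⟩
    refine mem_genJoin_of_fix F hT (hTb ▸ ⟨b, hb.1, rfl⟩) fun v hv => hjinj ?_
    rw [hact, mul_inv_eq_iff_eq_mul]
    have h1 : j v ∈ Z := hmemZ _ (hQS (hVQ (hjV v)))
      ((hfix J v).1 (by rw [hJD]; exact hv)) (hVel.2 _ (hjV v))
    exact (hb.2 _ h1).symm
  -- one block
  set L := FFNatural.blockOf f qq (Tb : Subgroup (G ⧸ C)) A₁ with hL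
  set R := others f qq (Tb : Subgroup (G ⧸ C)) A₁ with hR
  obtain ⟨K, iK, iKt, n, π, hn, hK, hπ, hDbor, htop, hmaxp⟩ := exists_proj F hT hA₁ hA₁S
  have hD' : A₁ ⊔ R = D := gen_sup_others F hA₁ hA₁S
  have hRD : R ≤ D := le_sup_right.trans hD'.le
  have hLN : L ≤ N := le_iSup_of_le ⟨A₁, hA₁, hA₁S⟩ le_rfl
  have hDY : D ≤ L ⊔ R := hD'.ge.trans (sup_le_sup_right (F.block_spec hT hA₁ hA₁S).1.le R)
  have hcent : G0 ⊓ Subgroup.centralizer ((Q ⊓ G0 : Subgroup G) : Set G) ≤ Q ⊓ G0 := by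
    set H := G0 ⊓ Subgroup.centralizer ((Q ⊓ G0 : Subgroup G) : Set G) with hH
    have hHn : H.Normal := inferInstance
    have hco : ∀ h ∈ H, (orderOf h).Coprime p → h = 1 := by
      intro h hh hcop
      have hhQ : h ∈ Subgroup.centralizer (Q : Set G) := by
        intro y hy
        set t := h * y * h⁻¹ * y⁻¹ with ht
        have htQ : t ∈ Q := Q.mul_mem (hQn.conj_mem y hy h) (Q.inv_mem hy)
        have htG : t ∈ G0 := by
          have h1 := (show G0.Normal from inferInstance).conj_mem _ (G0.inv_mem hh.1) y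
          rw [ht, show h * y * h⁻¹ * y⁻¹ = h * (y * h⁻¹ * y⁻¹) by group]
          exact G0.mul_mem hh.1 h1
        have hht : h * t * h⁻¹ = t := by
          rw [← hh.2 t ⟨htQ, htG⟩, mul_inv_cancel_right]
        have hpow : ∀ n : ℕ, h ^ n * y * (h ^ n)⁻¹ = t ^ n * y := by
          intro n
          induction n with
          | zero => simp
          | succ n ih =>
            calc h ^ (n + 1) * y * (h ^ (n + 1))⁻¹ = h * (h ^ n * y * (h ^ n)⁻¹) * h⁻¹ := by rw [pow_succ']; group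
              _ = (h * t ^ n * h⁻¹) * (h * y * h⁻¹ * y⁻¹) * y := by rw [ih]; group
              _ = t ^ (n + 1) * y := by rw [← conj_pow, hht, ← ht, pow_succ]
        have h1 := hpow (orderOf h)
        rw [pow_orderOf_eq_one, inv_one, one_mul, mul_one, eq_comm, mul_eq_right] at h1
        obtain ⟨i, hi⟩ := hQp ⟨t, htQ⟩
        have h2 : t ^ p ^ i = 1 := by simpa using congrArg Subtype.val hi
        have h3 : orderOf t = 1 := Nat.eq_one_of_dvd_coprimes (hcop.pow_right i)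
          (orderOf_dvd_of_pow_eq_one h1) (orderOf_dvd_of_pow_eq_one h2)
        rw [orderOf_eq_one_iff, ht, mul_inv_eq_one, mul_inv_eq_iff_eq_mul] at h3
        exact h3.symm
      have h1 : h ∈ Q := hG hhQ
      obtain ⟨i, hi⟩ := hQp ⟨h, h1⟩
      have h2 : h ^ p ^ i = 1 := by simpa using congrArg Subtype.val hi
      exact orderOf_eq_one_iff.1 (Nat.eq_one_of_dvd_coprimes (hcop.pow_right i)
        dvd_rfl (orderOf_dvd_of_pow_eq_one h2))
    have hHp : IsPGroup p H := by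
      intro ⟨h, hh⟩
      obtain ⟨i, hi⟩ := Cfsg.Agent.Transfer.NormalPComplement.exists_pow_coprime (p := p) (orderOf_pos h).ne'
      exact ⟨i, Subtype.ext (hco _ (H.pow_mem hh _) hi)⟩
    exact le_inf (le_sSup ⟨hHn, hHp⟩) inf_le_left
  have hker : ∀ R' : Subgroup G, IsPGroup p R' → R' ≤ q.ker ⊓ G0 → R' ≤ B := by
    intro R' hR' hle
    have hsup : Q ⊔ R' = Q := hQsyl.eq_of_le (hQp.to_sup_of_normal_left hR')
      (sup_le hQC (hle.trans (inf_le_left.trans hqker.le))) le_sup_left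
    exact le_trans (le_inf (sup_eq_left.1 hsup) (hle.trans inf_le_right)) hQ0B
  have hgenS : ∀ X : Subgroup G, L ⊔ R ≤ X.map q → X ⊔ (S : Subgroup G) = ⊤ := by
    intro X hX
    by_contra hne
    have h1 := Subgroup.map_mono (f := q) (hle_M _ le_sup_right hne)
    rw [Subgroup.map_sup] at h1
    exact hMbc.1 (top_le_iff.1 ((F.block_spec hT hA₁ hA₁S).2.1.ge.trans
      (sup_le (le_sup_right.trans h1) ((le_sup_left.trans hX).trans (le_sup_left.trans h1)))))
  obtain ⟨X, hBX, hXE, hXS⟩ := exists_cover S q (L ⊔ R) hn hK π hπ (hBD.le.trans hDY) (by rw [hBD]; exact hDbor)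
    (by rw [hBD]; exact htop) (by rw [hBD]; exact hmaxp) G0 hBG0
    ((sup_le hLN (hRD.trans hDN)).trans (hJnN.ge.trans (Subgroup.map_mono hJnG0)))
    (Q ⊓ G0) hQ0B hcent hker hgenS
  rcases hgood G S X B (MulEquiv.refl _) hG inf_le_left (Subgroup.le_normalizer.trans hNB) hBX hXE hXS
    (fun h => hnc fun z hz g => by
      have hzB : z ∈ B := ⟨hz.1, fun w hw => hz.2 w (hZS hw)⟩
      have h1 : X ⊔ (S : Subgroup G) ≤ Subgroup.centralizer ({z} : Set G) := sup_le
        (fun x hx => Subgroup.mem_centralizer_singleton_iff.2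
          (h z ⟨hzB, Subgroup.centralizer_le inf_le_left hz.2⟩ x hx))
        (fun x hx => Subgroup.mem_centralizer_singleton_iff.2 (hz.2 x hx))
      exact Subgroup.mem_centralizer_singleton_iff.1 (h1 (hXS.ge (Subgroup.mem_top g)))) with h | h
  · exact absurd h hK0
  · exact h

end Cfsg.Agent.GenA.TwoNorm
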