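import Cfsg.Agent.GenA.TwoNorm.Cases
import Cfsg.Agent.GenA.TF.Quad

/-!
Every 3-group has a characteristic subgroup that is normal in a group built over a pushing-up situation,
unless a quadratic element exists.
-/

set_option autoImplicit false
set_option linter.unusedSectionVars false
set_option linter.style.haveILetI false

namespace Cfsg.Agent.GenA.TwoNorm

open Subgroup Cfsg.Agent.CharP.PushOne Cfsg.Agent.GenA.GN
open scoped commutatorElement

universe u

variable {p : ℕ} [hp : Fact p.Prime]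

variable (p) in
/-- Some element outside the core is quadratic on every chief factor in the core. -/
def HasQuad {G : Type u} [Group G] (S : Subgroup G) : Prop :=
  ∃ x ∈ S, x ∉ Cfsg.pCore p G ∧ ∀ U V : Subgroup G, Cfsg.IsChiefFactor U V →
    U ≤ Cfsg.pCore p G → ⁅⁅U, zpowers x⁆, zpowers x⁆ ≤ V

variable (p) in
/-- The property of the sought subgroup. -/
def GoodK {B : Type u} [Group B] (K : Subgroup B) : Prop :=
  ∀ (G : Type u) [Group G] [Finite G] (S : Sylow p G) (X R : Subgroup G) (e : B ≃* ↥R),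
    centralizer (Cfsg.pCore p G : Set G) ≤ Cfsg.pCore p G → R ≤ (S : Subgroup G) →
    (S : Subgroup G) ≤ normalizer (R : Set G) → R ≤ X →
    Cfsg.IsPushingUpSituation p (R.subgroupOf X) → X ⊔ (S : Subgroup G) = ⊤ →
    (¬ ∀ z ∈ R ⊓ centralizer (R : Set G), ∀ x ∈ X, x * z = z * x) →
    (K.map (GN.emb e)).Normal ∨ HasQuad p (S : Subgroup G)

section terminal

variable {G : Type u} [Group G] [Finite G]

/-- Class three and generation by abelian subgroups of largest order give a quadratic element. -/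
theorem terminal (hp2 : p ≠ 2) (S : Sylow p G) {R : Subgroup G} (hRS : R ≤ (S : Subgroup G))
    (hSR : (S : Subgroup G) ≤ normalizer (R : Set G)) [(Cfsg.pCore p G ⊓ R).Normal]
    (hRQ : ¬ R ≤ Cfsg.pCore p G) (hJ : R ≤ sSup (Cfsg.Agent.PLocal.MaxAbelian.family 0 R))
    (hcl : ⁅⁅⁅R, R⁆, R⁆, R⁆ = ⊥) : HasQuad p (S : Subgroup G) := by
  set Q := Cfsg.pCore p G
  have hQn : Q.Normal := Cfsg.Agent.PLocal.Cores.pCore_normal'
  have hQS : Q ≤ (S : Subgroup G) := Cfsg.Agent.PLocal.Cores.pCore_le_sylow S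
  set Q1 := Q ⊓ R with hQ1
  have hQQ1 : ∀ x ∈ R, ⁅Q, zpowers x⁆ ≤ Q1 := fun x hx => le_inf (commutator_le_left Q _)
    ((commutator_mono le_rfl (zpowers_le.2 hx)).trans
      (le_normalizer_iff_commutator_le_right.1 (hQS.trans hSR)))
  by_cases hZ : R ⊓ centralizer (R : Set G) ≤ Q
  swap
  · obtain ⟨z, hz, hzQ⟩ := SetLike.not_le_iff_exists.1 hZ
    refine ⟨z, hRS hz.1, hzQ, fun U V hch hU => ?_⟩
    refine le_trans ?_ bot_le
    refine (commutator_mono ((commutator_mono hU le_rfl).trans (hQQ1 z hz.1)) le_rfl).trans (le_of_eq ?_)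
    rw [commutator_eq_bot_iff_le_centralizer, le_centralizer_iff, zpowers_le]
    exact centralizer_le (SetLike.coe_subset_coe.2 inf_le_right) hz.2
  set C := Q1 ⊓ centralizer (Q1 : Set G) with hC
  have hCR : C ≤ R := inf_le_left.trans inf_le_right
  have hC3 : ⁅⁅R, R⁆, R⁆ ≤ C := by
    have hle : ⁅⁅R, R⁆, R⁆ ≤ R := (commutator_mono (commutator_le_self R) le_rfl).trans (commutator_le_self R)
    have hc : ⁅⁅R, R⁆, R⁆ ≤ centralizer (R : Set G) := commutator_eq_bot_iff_le_centralizer.1 hcl
    exact le_inf (le_inf ((le_inf hle hc).trans hZ) hle)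
      (hc.trans (centralizer_le (SetLike.coe_subset_coe.2 inf_le_right)))
  suffices h : ∃ x ∈ R, x ∉ Q ∧ ⁅⁅C, zpowers x⁆, zpowers x⁆ = ⊥ by
    obtain ⟨x, hx, hxQ, hx2⟩ := h
    refine ⟨x, hRS hx, hxQ, fun U V hch hU => ?_⟩
    exact Cfsg.Agent.GenA.TF.quad_of_series (Q := Q) (Q0 := Q1) (W := C) (hQQ1 x hx)
      ((commutator_mono (commutator_mono inf_le_right (zpowers_le.2 hx)) (zpowers_le.2 hx)).trans hC3)
      hx2 hch hU
  by_cases hall : ∀ A ∈ Cfsg.Agent.PLocal.MaxAbelian.family 0 R, C ≤ A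
  · obtain ⟨A, hA, hAQ⟩ : ∃ A ∈ Cfsg.Agent.PLocal.MaxAbelian.family 0 R, ¬ A ≤ Q := by
      by_contra h
      push Not at h
      exact hRQ (hJ.trans (sSup_le h))
    obtain ⟨x, hx, hxQ⟩ := SetLike.not_le_iff_exists.1 hAQ
    refine ⟨x, hA.1 hx, hxQ, ?_⟩
    rw [show ⁅C, zpowers x⁆ = ⊥ from commutator_eq_bot_iff_le_centralizer.2
      ((hall A hA).trans fun a ha => (le_centralizer_iff.1 ((zpowers_le.2 hx).trans
        fun b hb => fun c hc => hA.2.1.1 c hc b hb)) ha), commutator_bot_left]
  · push Not at hall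
    obtain ⟨U, hU, hCU⟩ := hall
    have hCC : ⁅C, C⁆ = ⊥ := commutator_eq_bot_iff_le_centralizer.2
      (inf_le_right.trans (centralizer_le (SetLike.coe_subset_coe.2 inf_le_left)))
    have hCn : R ≤ normalizer (C : Set G) := by rw [normalizer_eq_top]; exact le_top
    obtain ⟨A, hA, -, hCA, hCN⟩ := Cfsg.Agent.PLocal.MaxAbelian.replacement_property hp2 (e := 0)
      (S.2.to_le hRS) hCR hCn le_rfl le_normalizer ⟨U, hU, hCC.le.trans bot_le, hCU⟩
    have hAQ : ¬ A ≤ Q := fun h => hCA fun c hc =>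
      Cfsg.Agent.CharP.PushingUpZJ.mem_of_centralizes hA (hCR hc)
        (centralizer_le (SetLike.coe_subset_coe.2 (le_inf h hA.1)) hc.2)
    obtain ⟨x, hx, hxQ⟩ := SetLike.not_le_iff_exists.1 hAQ
    refine ⟨x, hA.1 hx, hxQ, eq_bot_iff.2 ?_⟩
    refine (commutator_mono ((commutator_mono le_rfl (zpowers_le.2 hx)).trans
      (le_normalizer_iff_commutator_le_right.1 hCN)) (zpowers_le.2 hx)).trans (le_of_eq ?_)
    exact commutator_eq_bot_iff_le_centralizer.2 fun b hb c hc => hA.2.1.1 c hc b hb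

variable (S : Sylow p G) {D : Subgroup G} [D.Normal] (hDQ : D ≤ Cfsg.pCore p G)
  (hsup : centralizer (D : Set G) ⊔ (S : Subgroup G) = ⊤)
include hDQ

theorem pCore_quotient : Cfsg.pCore p (G ⧸ D) = (Cfsg.pCore p G).map (QuotientGroup.mk' D) := by
  set q := QuotientGroup.mk' D
  have hqs : Function.Surjective q := QuotientGroup.mk'_surjective D
  have hQn : (Cfsg.pCore p G).Normal := Cfsg.Agent.PLocal.Cores.pCore_normal'
  refine le_antisymm ?_ (Cfsg.Agent.CharP.le_pCore (hQn.map q hqs)
    ((Cfsg.Agent.CharP.isPGroup_pCore p G).map q))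
  rw [← map_comap_eq_self_of_surjective hqs (Cfsg.pCore p (G ⧸ D))]
  haveI : (Cfsg.pCore p (G ⧸ D)).Normal := Cfsg.Agent.PLocal.Cores.pCore_normal'
  refine map_mono (Cfsg.Agent.CharP.le_pCore (Normal.comap inferInstance q)
    ((Cfsg.Agent.CharP.isPGroup_pCore p (G ⧸ D)).comap_of_ker_isPGroup q ?_))
  rw [QuotientGroup.ker_mk']
  exact (Cfsg.Agent.CharP.isPGroup_pCore p G).to_le hDQ

include hsup

theorem constrained_quotient (hc : centralizer (Cfsg.pCore p G : Set G) ≤ Cfsg.pCore p G) :
    centralizer (Cfsg.pCore p (G ⧸ D) : Set (G ⧸ D)) ≤ Cfsg.pCore p (G ⧸ D) := by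
  set q := QuotientGroup.mk' D
  set Q := Cfsg.pCore p G
  rw [pCore_quotient hDQ]
  have hQn : Q.Normal := Cfsg.Agent.PLocal.Cores.pCore_normal'
  have hQp := Cfsg.Agent.CharP.isPGroup_pCore p G
  haveI : (Q.map q).Normal := hQn.map q (QuotientGroup.mk'_surjective D)
  haveI := Normal.comap (inferInstance : (centralizer (Q.map q : Set (G ⧸ D))).Normal) q
  have hL : (centralizer (Q.map q : Set (G ⧸ D))).comap q ≤ Q := by
    refine le_core_of_coprime fun x hx hco => ?_
    have hxD : x ∈ centralizer (D : Set G) :=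
      Cfsg.Agent.CharP.PushingUpCL.mem_of_sup_eq_top S.2 hsup hco
    have hxQ : x ∈ Q := hc fun y hy => (eq_one_of_chain (B := D) (hQp.to_le hDQ) hco
      (fun b hb => (hxD b hb).symm) (by
        rw [← QuotientGroup.ker_mk' D, MonoidHom.mem_ker, map_commutatorElement,
          commutatorElement_eq_one_iff_mul_comm]
        exact (hx _ (mem_map_of_mem q hy)).symm)).symm
    obtain ⟨j, hj⟩ := IsPGroup.iff_orderOf.1 hQp ⟨x, hxQ⟩
    rw [orderOf_mk] at hj
    exact orderOf_eq_one_iff.1 (Nat.eq_one_of_dvd_coprimes (hco.pow_right j) dvd_rfl (dvd_of_eq hj))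
  intro y hy
  obtain ⟨x, rfl⟩ := QuotientGroup.mk'_surjective D y
  exact mem_map_of_mem q (hL hy)

theorem hasQuad_quotient
    (h : HasQuad p ((S : Subgroup G).map (QuotientGroup.mk' D))) : HasQuad p (S : Subgroup G) := by
  set q := QuotientGroup.mk' D
  have hqs : Function.Surjective q := QuotientGroup.mk'_surjective D
  obtain ⟨_, ⟨x, hxS, rfl⟩, hxQ, hx⟩ := h
  rw [pCore_quotient hDQ] at hxQ hx
  refine ⟨x, hxS, fun hh => hxQ (mem_map_of_mem q hh), fun U V hch hU => ?_⟩
  obtain ⟨hlt, hUn, hVn, hmax⟩ := id hch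
  have hcomm : ⁅⁅U, zpowers x⁆, zpowers x⁆ ≤ U :=
    (commutator_mono (commutator_le_left U _) le_rfl).trans (commutator_le_left U _)
  rcases hmax ((U ⊓ D) ⊔ V) inferInstance le_sup_right (sup_le inf_le_left hlt.le) with e | e
  · have hmod : ∀ y ∈ U, q y ∈ V.map q → y ∈ V := by
      rintro y hy ⟨v, hv, hvy⟩
      have h1 : v⁻¹ * y ∈ U ⊓ D := ⟨U.mul_mem (U.inv_mem (hlt.le hv)) hy, by
        show v⁻¹ * y ∈ D
        rw [← QuotientGroup.eq_one_iff (N := D)]
        show q (v⁻¹ * y) = 1
        rw [map_mul, map_inv, hvy, inv_mul_cancel]⟩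
      simpa using V.mul_mem hv (e.le (mem_sup_left h1))
    have hch' : Cfsg.IsChiefFactor (U.map q) (V.map q) := by
      refine ⟨lt_of_le_of_ne (map_mono hlt.le) fun h0 => hlt.not_ge fun y hy =>
        hmod y hy (h0.ge (mem_map_of_mem q hy)), hUn.map q hqs, hVn.map q hqs, fun N hN h1 h2 => ?_⟩
      haveI : (N.comap q).Normal := hN.comap q
      have e1 : (N.comap q ⊓ U).map q = N := by
        refine le_antisymm ((map_mono inf_le_left).trans (map_comap_le q N)) fun y hy => ?_
        obtain ⟨w, hw, rfl⟩ := h2 hy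
        exact mem_map_of_mem q ⟨hy, hw⟩
      rcases hmax (N.comap q ⊓ U) inferInstance
        (le_inf (map_le_iff_le_comap.1 h1) hlt.le) inf_le_right with e2 | e2
      · exact Or.inl (by rw [← e1, e2])
      · exact Or.inr (by rw [← e1, e2])
    have h1 := hx _ _ hch' (map_mono hU)
    rw [← MonoidHom.map_zpowers, ← map_commutator, ← map_commutator] at h1
    exact fun y hy => hmod y (hcomm hy) (h1 (mem_map_of_mem q hy))
  · -- the factor is central
    have hle : ⁅U, (⊤ : Subgroup G)⁆ ≤ V := by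
      set r := QuotientGroup.mk' V
      have hrs : Function.Surjective r := QuotientGroup.mk'_surjective V
      set Ud := (U ⊓ D).map r with hUd
      have hUdU : Ud = U.map r := by
        conv_rhs => rw [← e, Subgroup.map_sup, QuotientGroup.map_mk'_self, sup_bot_eq]
      haveI hUdn : Ud.Normal := hUdU ▸ hUn.map r hrs
      set Sr := (S : Subgroup G).map r
      have hSrp : IsPGroup p Sr := S.2.map r
      have hUS : Ud ≤ Sr := map_mono (inf_le_left.trans (hU.trans
        (Cfsg.Agent.PLocal.Cores.pCore_le_sylow S)))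
      have hne : Ud.subgroupOf Sr ≠ ⊥ := fun h0 => by
        rw [subgroupOf_eq_bot, disjoint_iff, inf_eq_left.2 hUS, hUdU, Subgroup.map_eq_bot_iff,
          QuotientGroup.ker_mk'] at h0
        exact hlt.not_ge h0
      haveI := hSrp.isNilpotent
      obtain ⟨z, ⟨hzU, hzc⟩, hz1⟩ : ∃ z ∈ Ud.subgroupOf Sr ⊓ center ↥Sr, z ≠ 1 := by
        obtain ⟨z, hz, hz1⟩ := (Subgroup.bot_or_exists_ne_one _).resolve_left
          (Cfsg.Agent.Cores.inf_center_ne_bot hne)
        exact ⟨z, hz, hz1⟩
      have hzG : (z : G ⧸ V) ∈ center (G ⧸ V) := by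
        rw [mem_center_iff]
        have htop : (centralizer (D : Set G)).map r ⊔ Sr = ⊤ := by
          rw [← Subgroup.map_sup, hsup, map_top_of_surjective _ hrs]
        have : centralizer ({(z : G ⧸ V)} : Set (G ⧸ V)) = ⊤ := top_le_iff.1 (htop.ge.trans (sup_le ?_ ?_))
        · exact fun g => mem_centralizer_singleton_iff.1 (this.ge (mem_top g))
        · rintro _ ⟨c, hc, rfl⟩
          obtain ⟨d, hd, hdz⟩ := (mem_subgroupOf.1 hzU : (z : G ⧸ V) ∈ Ud)
          rw [mem_centralizer_singleton_iff, ← hdz, ← map_mul, ← map_mul, hc d hd.2]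
        · exact fun s hs => mem_centralizer_singleton_iff.2
            (congrArg Subtype.val (mem_center_iff.1 hzc ⟨s, hs⟩))
      rcases hmax (U ⊓ (center (G ⧸ V)).comap r) inferInstance
        (le_inf hlt.le fun v hv => by
          rw [mem_comap, show r v = 1 from (QuotientGroup.eq_one_iff v).2 hv]
          exact one_mem _) inf_le_left with e2 | e2
      · exfalso
        obtain ⟨d, hd, hdz⟩ := (mem_subgroupOf.1 hzU : (z : G ⧸ V) ∈ Ud)
        refine hz1 (Subtype.ext ?_)
        rw [← hdz]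
        exact (QuotientGroup.eq_one_iff d).2 (e2.le ⟨hd.1, (show r d ∈ center (G ⧸ V) by rw [hdz]; exact hzG)⟩)
      · rw [← QuotientGroup.ker_mk' V, ← Subgroup.map_eq_bot_iff, map_commutator,
          commutator_eq_bot_iff_le_centralizer]
        intro y hy
        obtain ⟨w, hw, rfl⟩ := hy
        exact fun g _ => (mem_center_iff.1 (e2.ge hw).2 g)
    exact (commutator_mono ((commutator_mono le_rfl le_top).trans hle) le_rfl).trans (commutator_le_left V _)

end terminal

theorem exists_good (hp3 : p = 3) : ∀ (n : ℕ) (B : Type u) [Group B] [Finite B], Nat.card B = n →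
    IsPGroup p B → Nontrivial B → ∃ K : Subgroup B, K ≠ ⊥ ∧ K.Characteristic ∧ GoodK p K := by
  intro n
  induction n using Nat.strong_induction_on with
  | _ n ih =>
  intro B _ _ hn hB hnt
  have hp2 : p ≠ 2 := by omega
  -- the situation inside `X`
  have hsetup : ∀ {G : Type u} [Group G] [Finite G] {X R : Subgroup G} (e : B ≃* ↥R) (hRX : R ≤ X),
      (¬ ∀ z ∈ R ⊓ centralizer (R : Set G), ∀ x ∈ X, x * z = z * x) →
      NC (R.subgroupOf X) ∧
      ∀ K : Subgroup B, (K.map (GN.emb (e.trans (subgroupOfEquivOfLe hRX).symm))).map X.subtype =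
        K.map (GN.emb e) := by
    intro G _ _ X R e hRX hnc
    refine ⟨fun h => hnc fun z hz x hx => ?_, fun K => by rw [Subgroup.map_map]; rfl⟩
    exact congrArg Subtype.val (h ⟨z, hRX hz.1⟩ ⟨mem_subgroupOf.2 hz.1,
      fun y hy => Subtype.ext (hz.2 (y : G) (mem_subgroupOf.1 hy))⟩ ⟨x, hx⟩)
  rcases outcome hp3 hB with ⟨B₁, hB1t, hB1b, hB1c, hB1z, hdesc⟩ | ⟨D, hDb, hDc, hDz, hcent⟩ | ⟨hJ, hcl⟩
  · -- descent
    have hlt : Nat.card B₁ < n := hn ▸ Cfsg.Agent.Techniques.Functor.card_subgroup_lt hB1t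
    obtain ⟨K₁, hK1b, hK1c, hgood⟩ := ih _ hlt B₁ rfl (hB.to_subgroup B₁)
      ((nontrivial_iff_ne_bot _).2 hB1b)
    refine ⟨K₁.map B₁.subtype, ?_, inferInstance, ?_⟩
    · rwa [Ne, map_eq_bot_iff_of_injective _ B₁.subtype_injective]
    intro G _ _ S X R e hc hRS hSR hRX hE hsup hnc
    obtain ⟨hNC, hmap⟩ := hsetup e hRX hnc
    set e' := e.trans (subgroupOfEquivOfLe hRX).symm
    set R₁ := B₁.map (GN.emb e) with hR1
    let e₁ : ↥B₁ ≃* ↥R₁ := B₁.equivMapOfInjective _ (emb_inj e)
    have heq : (K₁.map B₁.subtype).map (GN.emb e) = K₁.map (GN.emb e₁) := by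
      rw [Subgroup.map_map]; rfl
    rw [heq]
    have hR1S : R₁ ≤ (S : Subgroup G) := (map_emb_le e _).trans hRS
    have hSR1 : (S : Subgroup G) ≤ normalizer (R₁ : Set G) := hSR.trans (normalizer_le_char e hB1c)
    rcases hdesc ↥X (R.subgroupOf X) e' hE hNC with hn1 | ⟨Y, hBY, hEY, hY⟩
    · refine Or.inl (normalizer_eq_top_iff.1 (top_le_iff.1 (le_trans ?_ (normalizer_le_char e₁ hK1c))))
      rw [← hsup]
      refine sup_le ?_ hSR1
      rw [hR1, ← hmap B₁]
      refine le_trans ?_ (le_normalizer_map X.subtype)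
      rw [normalizer_eq_top_iff.2 hn1, ← MonoidHom.range_eq_map, range_subtype]
    · set X' := Y.map X.subtype with hX'
      have hR1X : R₁ ≤ X' := by rw [hR1, ← hmap B₁]; exact map_mono hBY
      let g := Y.equivMapOfInjective X.subtype X.subtype_injective
      have hE' : Cfsg.IsPushingUpSituation p (R₁.subgroupOf X') := by
        have h1 := situation_of_surjective hEY (f := g.toMonoidHom) g.surjective
          (by rw [(MonoidHom.ker_eq_bot_iff _).2 g.injective]; exact bot_le)
          (fun z hz x => by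
            rw [(MonoidHom.ker_eq_bot_iff _).2 g.injective, mem_bot] at hz
            rw [hz, one_mul, mul_one])
        have e2 : ((B₁.map (GN.emb e')).subgroupOf Y).map g.toMonoidHom = R₁.subgroupOf X' := by
          refine map_injective X'.subtype_injective ?_
          rw [Subgroup.map_map, map_subgroupOf_eq_of_le hR1X]
          rw [show X'.subtype.comp g.toMonoidHom = X.subtype.comp Y.subtype from MonoidHom.ext fun _ => rfl,
            ← Subgroup.map_map, map_subgroupOf_eq_of_le hBY]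
          exact hmap B₁
        rwa [e2] at h1
      have hXle : X ≤ X' ⊔ R := by
        have h1 := congrArg (map X.subtype) hY
        rw [Subgroup.map_sup, map_subgroupOf_eq_of_le hRX, ← MonoidHom.range_eq_map, range_subtype] at h1
        exact h1.ge
      refine hgood G S X' R₁ e₁ hc hR1S hSR1 hR1X hE' ?_ fun h => hnc fun z hz => ?_
      · exact top_le_iff.1 (hsup.ge.trans (sup_le (hXle.trans (sup_le_sup_left hRS _)) le_sup_right))
      · obtain ⟨z', hz', rfl⟩ := (map_center_emb e).ge hz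
        have hz1 : GN.emb e z' ∈ R₁ ⊓ centralizer (R₁ : Set G) := ⟨mem_map_of_mem _ (hB1z hz'),
          centralizer_le (SetLike.coe_subset_coe.2 (map_emb_le e _)) hz.2⟩
        have h2 : X' ⊔ R ≤ centralizer ({GN.emb e z'} : Set G) :=
          sup_le (fun x hx => mem_centralizer_singleton_iff.2 (h _ hz1 x hx))
            fun x hx => mem_centralizer_singleton_iff.2 (hz.2 x hx)
        exact fun x hx => mem_centralizer_singleton_iff.1 (h2 (hXle hx))
  · -- quotient
    by_cases hDt : D = ⊤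
    · refine ⟨⊤, top_ne_bot, inferInstance, fun G _ _ S X R e _ _ _ hRX hE _ _ => absurd hE ?_⟩
      refine no_situation_of_comm ⟨⟨fun a b => ?_⟩⟩ (e.trans (subgroupOfEquivOfLe hRX).symm)
      exact (mem_center_iff.1 (hDz (hDt.ge (mem_top a))) b).symm
    haveI := hDc
    have hlt : Nat.card (B ⧸ D) < n := hn ▸ Cfsg.Agent.Techniques.Functor.card_quotient_lt hDb
    have hntq : Nontrivial (B ⧸ D) := by
      rw [← Finite.one_lt_card_iff_nontrivial, ← index_eq_card]
      exact one_lt_index_of_ne_top hDt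
    obtain ⟨K', hK'b, hK'c, hgood⟩ := ih _ hlt (B ⧸ D) rfl (hB.to_quotient D) hntq
    refine ⟨K'.comap (QuotientGroup.mk' D), fun h0 => hDb (le_bot_iff.1 (le_trans ?_ h0.le)), ?_, ?_⟩
    · intro d hd
      rw [mem_comap, show QuotientGroup.mk' D d = 1 from (QuotientGroup.eq_one_iff d).2 hd]
      exact one_mem _
    · refine characteristic_iff_comap_eq.2 fun φ => ?_
      have hD : D.map φ.toMonoidHom = D := characteristic_iff_map_eq.1 hDc φ
      let ψ := QuotientGroup.congr D D φ hD
      conv_rhs => rw [← characteristic_iff_comap_eq.1 hK'c ψ]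
      rw [comap_comap, comap_comap]
      rfl
    intro G _ _ S X R e hc hRS hSR hRX hE hsup hnc
    obtain ⟨hNC, hmap⟩ := hsetup e hRX hnc
    set e' := e.trans (subgroupOfEquivOfLe hRX).symm
    set Dg := D.map (GN.emb e) with hDg
    have hDX : ∀ d ∈ Dg, ∀ x ∈ X, x * d = d * x := by
      intro d hd x hx
      obtain ⟨d', hd', rfl⟩ := (hmap D).ge hd
      exact congrArg Subtype.val (hcent ↥X (R.subgroupOf X) e' hE hNC d' hd' ⟨x, hx⟩)
    have hXC : X ≤ centralizer (Dg : Set G) := fun x hx d hd => (hDX d hd x hx).symm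
    have hDR : Dg ≤ R := map_emb_le e _
    haveI hDn : Dg.Normal := normalizer_eq_top_iff.1 (top_le_iff.1 (hsup.ge.trans
      (sup_le (hXC.trans (centralizer_le_normalizer _)) (hSR.trans (normalizer_le_char e hDc)))))
    have hDQ : Dg ≤ Cfsg.pCore p G := Cfsg.Agent.CharP.le_pCore hDn (S.2.to_le (hDR.trans hRS))
    have hCS : centralizer (Dg : Set G) ⊔ (S : Subgroup G) = ⊤ :=
      top_le_iff.1 (hsup.ge.trans (sup_le_sup_right hXC _))
    set q := QuotientGroup.mk' Dg with hq
    have hqs : Function.Surjective q := QuotientGroup.mk'_surjective Dg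
    let g := q.comp (GN.emb e)
    have hgk : g.ker = D := by
      rw [← MonoidHom.comap_ker, QuotientGroup.ker_mk', hDg,
        comap_map_eq_self_of_injective (emb_inj e)]
    have hgr : g.range = R.map q := by
      rw [MonoidHom.range_eq_map, ← Subgroup.map_map, map_emb_top]
    let e₂ : B ⧸ D ≃* ↥(R.map q) := (QuotientGroup.quotientMulEquivOfEq hgk.symm).trans
      ((QuotientGroup.quotientKerEquivRange g).trans (MulEquiv.subgroupCongr hgr))
    have he2 : ∀ b : B, GN.emb e₂ (QuotientGroup.mk' D b) = q (GN.emb e b) := fun b => rfl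
    have hnormR : (S.mapSurjective hqs : Subgroup (G ⧸ Dg)) ≤ normalizer (R.map q : Set (G ⧸ Dg)) := by
      rw [Sylow.coe_mapSurjective]
      exact (map_mono hSR).trans (le_normalizer_map q)
    have hEq : Cfsg.IsPushingUpSituation p ((R.map q).subgroupOf (X.map q)) := by
      have hk : ∀ x : ↥X, x ∈ (q.subgroupMap X).ker → (x : G) ∈ Dg := fun x hx =>
        (QuotientGroup.eq_one_iff _).1 (congrArg Subtype.val (MonoidHom.mem_ker.1 hx))
      have h1 := situation_of_surjective hE (f := q.subgroupMap X) (q.subgroupMap_surjective X)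
        (fun x hx => hDR (hk x hx)) (fun z hz x => Subtype.ext (hDX _ (hk z hz) x x.2))
      have e3 : (R.subgroupOf X).map (q.subgroupMap X) = (R.map q).subgroupOf (X.map q) := by
        refine map_injective (X.map q).subtype_injective ?_
        rw [Subgroup.map_map, map_subgroupOf_eq_of_le (map_mono hRX),
          show (X.map q).subtype.comp (q.subgroupMap X) = q.comp X.subtype from MonoidHom.ext fun _ => rfl,
          ← Subgroup.map_map, map_subgroupOf_eq_of_le hRX]
      rwa [e3] at h1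
    have hNCq : ¬ ∀ z ∈ R.map q ⊓ centralizer (R.map q : Set (G ⧸ Dg)), ∀ x ∈ X.map q, x * z = z * x := by
      intro h
      refine hNC fun z hz g0 => ?_
      have hz' : q (z : G) ∈ R.map q ⊓ centralizer (R.map q : Set (G ⧸ Dg)) := by
        refine ⟨mem_map_of_mem q (mem_subgroupOf.1 hz.1), ?_⟩
        rintro _ ⟨r, hr, rfl⟩
        rw [← map_mul, ← map_mul]
        exact congrArg q (congrArg Subtype.val (hz.2 ⟨r, hRX hr⟩ (mem_subgroupOf.2 hr)))
      have hd : ∀ x : ↥X, ((x⁻¹ * z * x * z⁻¹ : ↥X) : G) ∈ Dg := fun x => by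
        rw [← QuotientGroup.eq_one_iff (N := Dg)]
        show q ((x : G)⁻¹ * z * x * (z : G)⁻¹) = 1
        rw [map_mul, map_mul, map_mul, map_inv, map_inv, mul_assoc _ (q (z : G)),
          ← h _ hz' _ (mem_map_of_mem q x.2)]
        group
      set N := centralizer ({z} : Set ↥X)
      haveI : N.Normal := ⟨fun y hy x => by
        have hy' := mem_centralizer_singleton_iff.1 hy
        set d : ↥X := x⁻¹ * z * x * z⁻¹ with hddef
        have hyd : y * d = d * y := Subtype.ext (hDX _ (hd x) y y.2)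
        refine mem_centralizer_singleton_iff.2 ?_
        have e4 : x⁻¹ * z * x = d * z := by rw [hddef, inv_mul_cancel_right]
        calc x * y * x⁻¹ * z = x * (y * (x⁻¹ * z * x)) * x⁻¹ := by group
          _ = x * ((x⁻¹ * z * x) * y) * x⁻¹ := by
            rw [e4, ← mul_assoc y, hyd, mul_assoc d y, hy', ← mul_assoc d]
          _ = z * (x * y * x⁻¹) := by group⟩
      exact mem_centralizer_singleton_iff.1 ((eq_top_of_normal_ge hE (N := N)
        fun y hy => mem_centralizer_singleton_iff.2 (hz.2 y hy)).ge (mem_top g0))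
    have hRqS : R.map q ≤ (S.mapSurjective hqs : Subgroup (G ⧸ Dg)) := by
      rw [Sylow.coe_mapSurjective]; exact map_mono hRS
    rcases hgood (G ⧸ Dg) (S.mapSurjective hqs) (X.map q) (R.map q) e₂ (constrained_quotient S hDQ hCS hc)
      hRqS hnormR (map_mono hRX) hEq (by
        rw [Sylow.coe_mapSurjective, ← Subgroup.map_sup, hsup, map_top_of_surjective _ hqs]) hNCq with hK | hK
    · refine Or.inl ?_
      have e5 : (K'.comap (QuotientGroup.mk' D)).map (GN.emb e) = (K'.map (GN.emb e₂)).comap q := by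
        ext y
        constructor
        · rintro ⟨b, hb, rfl⟩
          exact ⟨_, hb, he2 b⟩
        · rintro ⟨k, hk, hky⟩
          obtain ⟨b, rfl⟩ := QuotientGroup.mk'_surjective D k
          rw [he2] at hky
          obtain ⟨d, hd, hde⟩ : (GN.emb e b)⁻¹ * y ∈ Dg := by
            rw [← QuotientGroup.eq_one_iff (N := Dg)]
            show q ((GN.emb e b)⁻¹ * y) = 1
            rw [map_mul, map_inv, hky, inv_mul_cancel]
          refine ⟨b * d, ?_, by rw [map_mul, hde, mul_inv_cancel_left]⟩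
          show QuotientGroup.mk' D (b * d) ∈ K'
          rw [map_mul, show QuotientGroup.mk' D d = 1 from (QuotientGroup.eq_one_iff d).2 hd, mul_one]
          exact hk
      rw [e5]
      exact hK.comap q
    · rw [Sylow.coe_mapSurjective] at hK
      exact Or.inr (hasQuad_quotient S hDQ hCS hK)
  · -- terminal
    refine ⟨⊤, top_ne_bot, inferInstance, ?_⟩
    intro G _ _ S X R e hc hRS hSR hRX hE hsup hnc
    set Q := Cfsg.pCore p G
    have hQX : Q.subgroupOf X ≤ Cfsg.pCore p ↥X :=
      Cfsg.Agent.CharP.le_pCore (Normal.comap Cfsg.Agent.PLocal.Cores.pCore_normal' _)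
        ((Cfsg.Agent.CharP.isPGroup_pCore p G).comap_subtype)
    have hQR : Q ⊓ R = Q ⊓ X := le_antisymm (inf_le_inf_left _ hRX) fun x hx => ⟨hx.1,
      mem_subgroupOf.1 ((Cfsg.Agent.CharP.PushingUpCL.center_le_pCore hE).2
        (hQX (mem_subgroupOf.2 hx.1 : (⟨x, hx.2⟩ : ↥X) ∈ Q.subgroupOf X)))⟩
    haveI : (Q ⊓ R).Normal := normalizer_eq_top_iff.1 (top_le_iff.1 (hsup.ge.trans (sup_le
      (fun x hx => by
        rw [hQR]
        exact Cfsg.Agent.Techniques.Functor.mem_normalizer_inf
          (by rw [normalizer_eq_top_iff.2 Cfsg.Agent.PLocal.Cores.pCore_normal']; exact mem_top x)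
          (le_normalizer hx))
      fun x hx => Cfsg.Agent.Techniques.Functor.mem_normalizer_inf
          (by rw [normalizer_eq_top_iff.2 Cfsg.Agent.PLocal.Cores.pCore_normal']; exact mem_top x)
          (hSR hx))))
    refine Or.inr (terminal hp2 S hRS hSR (fun h => not_le_core hE fun x hx =>
      hQX (h (mem_subgroupOf.1 hx))) ?_ ?_)
    · rw [← Cfsg.Agent.CharP.PushingUpZJ.thompson_eq, thompsonAOf_emb e, hJ, map_emb_top]
    · have h1 := congrArg (map (GN.emb e)) hcl
      simpa only [Subgroup.map_commutator, map_emb_top, Subgroup.map_bot] using h1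

end Cfsg.Agent.GenA.TwoNorm
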