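import Cfsg.Agent.GenA.TwoNorm.Exists
import Cfsg.Agent.Techniques.Functor.TransferResults

/-!
Transfer in groups with a Sylow 3-subgroup is controlled by the centre and one further characteristic
subgroup of it.
-/

set_option autoImplicit false
set_option linter.unusedSectionVars false
set_option linter.style.haveILetI false

namespace Cfsg.Agent.GenA.TwoNorm

open Subgroup Cfsg.Agent.GenA.TF Cfsg.Agent.Techniques.Functor
open scoped commutatorElement

universe u

variable {p : ℕ} [hp : Fact p.Prime]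

theorem map_baumannP {G H : Type*} [Group G] [Finite G] [Group H] [Finite H] {φ : G →* H}
    (hφ : Function.Injective φ) (S : Subgroup G) :
    (Cfsg.baumannSubgroupOf p S).map φ = Cfsg.baumannSubgroupOf p (S.map φ) := by
  have hcent : ∀ A C : Subgroup G,
      (A ⊓ centralizer (C : Set G)).map φ = A.map φ ⊓ centralizer (C.map φ : Set H) := by
    intro A C
    ext z
    constructor
    · rintro ⟨a, ⟨ha, hc⟩, rfl⟩
      refine ⟨mem_map_of_mem φ ha, ?_⟩
      rintro _ ⟨c, hc', rfl⟩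
      rw [← map_mul, ← map_mul, hc c hc']
    · rintro ⟨⟨a, ha, rfl⟩, hc⟩
      exact ⟨a, ⟨ha, fun c hc' => hφ (by rw [map_mul, map_mul, hc _ (mem_map_of_mem φ hc')])⟩, rfl⟩
  simp only [Cfsg.baumannSubgroupOf, Cfsg.centerThompsonOf]
  rw [hcent, Cfsg.Agent.PLocal.Omega.map_omegaOne hφ, hcent,
    Cfsg.Agent.PLocal.ThompsonSubgroup.map_thompsonSubgroupOf hφ]

variable (p) in
/-- The property defining the second functor. -/
def GoodQ {Q : Type u} [Group Q] (K : Subgroup Q) : Prop :=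
  ∀ (G : Type u) [Group G] [Finite G] (S : Sylow p G) (e : Q ≃* ↥(S : Subgroup G)) (M : Subgroup G),
    centralizer (Cfsg.pCore p G : Set G) ≤ Cfsg.pCore p G → M ≠ ⊤ →
    (∀ X : Subgroup G, (S : Subgroup G) ≤ X → X ≠ ⊤ → X ≤ M) →
    (¬ ∀ z ∈ (S : Subgroup G) ⊓ centralizer ((S : Subgroup G) : Set G), ∀ g : G, g * z = z * g) →
    (K.map (GN.emb e)).Normal ∨ HasQuad p (S : Subgroup G)

theorem exists_goodQ (hp3 : p = 3) (Q : Type u) [Group Q] [Finite Q] (hQ : IsPGroup p Q)
    [Nontrivial Q] : ∃ K : Subgroup Q, K ≠ ⊥ ∧ K.Characteristic ∧ GoodQ p K := by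
  set B := Cfsg.baumannSubgroupOf p (⊤ : Subgroup Q) with hBdef
  haveI hBc : B.Characteristic := characteristic_iff_map_eq.2 fun φ => by
    rw [hBdef, map_baumannP φ.injective, map_top_of_surjective _ φ.surjective]
  have hBne : B ≠ ⊥ := by
    intro h0
    have := hQ.center_nontrivial
    refine ((Subgroup.nontrivial_iff_ne_bot _).1 this) (le_bot_iff.1 (le_trans ?_ h0.le))
    exact fun z hz => ⟨mem_top z, fun y _ => mem_center_iff.1 hz y⟩
  obtain ⟨K0, hK0b, hK0c, hgood⟩ := exists_good hp3 _ ↥B rfl (hQ.to_subgroup B)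
    ((Subgroup.nontrivial_iff_ne_bot _).2 hBne)
  refine ⟨K0.map B.subtype, ?_, inferInstance, ?_⟩
  · rwa [Ne, map_eq_bot_iff_of_injective _ B.subtype_injective]
  intro G _ _ S e M hc hM hle hnc
  have hR : B.map (GN.emb e) = Cfsg.baumannSubgroupOf p (S : Subgroup G) := by
    rw [hBdef, map_baumannP (GN.emb_inj e), GN.map_emb_top]
  let eB : ↥B ≃* ↥(Cfsg.baumannSubgroupOf p (S : Subgroup G)) :=
    (B.equivMapOfInjective _ (GN.emb_inj e)).trans (MulEquiv.subgroupCongr hR)
  by_cases hn : ((K0.map B.subtype).map (GN.emb e)).Normal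
  · exact Or.inl hn
  refine Or.inr (exists_quadratic (by omega) hc S M hM hle hnc (K0.map eB.toMonoidHom)
    (characteristic_map_equiv eB hK0c) ?_ ?_)
  · intro G' _ _ S' X R e' h1 h2 h3 h4 h5 h6 h7
    have e1 : (K0.map eB.toMonoidHom).map (GN.emb e') = K0.map (GN.emb (eB.trans e')) := by
      rw [Subgroup.map_map]; rfl
    rw [e1]
    exact hgood G' S' X R _ h1 h2 h3 h4 h5 h6 h7
  · have e2 : (K0.map eB.toMonoidHom).map (Cfsg.baumannSubgroupOf p (S : Subgroup G)).subtype =
        (K0.map B.subtype).map (GN.emb e) := by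
      rw [Subgroup.map_map, Subgroup.map_map]; rfl
    rwa [e2]

variable (p) in
/-- The second functor. -/
def wFun : ∀ (Q : Type u) [Group Q], Subgroup Q := fun Q _ =>
  sSup {K : Subgroup Q | K ≠ ⊥ ∧ K.Characteristic ∧ GoodQ p K}

theorem map_wFun_le {Q R : Type u} [Group Q] [Group R] (φ : Q ≃* R) :
    (wFun p Q).map φ.toMonoidHom ≤ wFun p R := by
  rw [wFun, (Subgroup.gc_map_comap _).l_sSup]
  refine iSup₂_le fun K hK => le_sSup ⟨?_, characteristic_map_equiv φ hK.2.1, ?_⟩
  · rw [Ne, map_eq_bot_iff_of_injective _ φ.injective]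
    exact hK.1
  · intro G _ _ S e M h1 h2 h3 h4
    have e1 : (K.map φ.toMonoidHom).map (GN.emb e) = K.map (GN.emb (φ.trans e)) := by
      rw [Subgroup.map_map]; rfl
    rw [e1]
    exact hK.2.2 G S _ M h1 h2 h3 h4

theorem map_wFun {Q R : Type u} [Group Q] [Group R] (φ : Q ≃* R) :
    (wFun p Q).map φ.toMonoidHom = wFun p R := by
  refine le_antisymm (map_wFun_le φ) fun r hr => ?_
  exact ⟨φ.symm r, map_wFun_le φ.symm (mem_map_of_mem _ hr), by simp⟩

theorem wFun_char (Q : Type u) [Group Q] : (wFun p Q).Characteristic :=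
  characteristic_iff_map_eq.2 map_wFun

theorem wFun_functor (hp3 : p = 3) : IsCharPFunctor.{u} p (wFun p) := by
  refine ⟨fun Q _ _ hQ _ h0 => ?_, fun Q R _ _ _ _ φ => map_wFun φ⟩
  obtain ⟨K, hK⟩ := exists_goodQ hp3 Q hQ
  have h1 : K ≤ wFun p Q := le_sSup hK
  exact hK.1 (le_bot_iff.1 (h1.trans h0.le))

/-- The centre as a functor. -/
def zFun : ∀ (Q : Type u) [Group Q], Subgroup Q := fun Q _ => center Q

theorem zFun_functor : IsCharPFunctor.{u} p zFun := by
  refine ⟨fun Q _ _ hQ _ => (Subgroup.nontrivial_iff_ne_bot _).1 hQ.center_nontrivial,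
    fun Q R _ _ _ _ φ => ?_⟩
  ext r
  constructor
  · rintro ⟨z, hz, rfl⟩
    refine mem_center_iff.2 fun y => ?_
    obtain ⟨x, rfl⟩ := φ.surjective y
    simp [← map_mul, mem_center_iff.1 hz x]
  · intro hr
    refine ⟨φ.symm r, mem_center_iff.2 fun x => φ.injective ?_, by simp⟩
    simp [mem_center_iff.1 hr (φ x)]

theorem induced_zFun {G : Type u} [Group G] (P : Subgroup G) :
    inducedFunctor zFun P = P ⊓ centralizer (P : Set G) := map_subtype_center P

theorem tc_two (hp3 : p = 3) (G : Type u) [Group G] [Finite G] : TC p {zFun, wFun p} G := by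
  have hp2 : p ≠ 2 := by omega
  have h𝓦 : ∀ W ∈ ({zFun, wFun p} : Set (∀ (Q : Type u) [Group Q], Subgroup Q)),
      IsCharPFunctor.{u} p W := by
    rintro W (rfl | rfl)
    · exact zFun_functor
    · exact wFun_functor hp3
  refine tc_of_quotients (G := G) h𝓦 (fun K' R' _ hsub hquot hc S => ?_) G (IsSec.refl G)
  by_contra hfail
  have hm : Minimal p ({zFun, wFun p} : Set (∀ (Q : Type u) [Group Q], Subgroup Q)) S :=
    ⟨h𝓦, ⟨zFun, Or.inl rfl⟩, hsub, hquot, fun h => hfail
      ((inf_le_inf_right _ (Cfsg.Agent.PLocal.Cores.pCore_le_sylow S)).trans h)⟩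
  have hz : ¬ (inducedFunctor zFun (S : Subgroup (↥K' ⧸ R'.subgroupOf K'))).Normal := fun hn =>
    hm.core_not_le (pCore_inf_commutator_le_of_normal (W := zFun) (Or.inl rfl) S hn)
  have hw : ¬ (inducedFunctor (wFun p) (S : Subgroup (↥K' ⧸ R'.subgroupOf K'))).Normal := fun hn =>
    hm.core_not_le (pCore_inf_commutator_le_of_normal (W := wFun p) (Or.inr rfl) S hn)
  have hnc : ¬ ∀ z ∈ (S : Subgroup (↥K' ⧸ R'.subgroupOf K')) ⊓
      centralizer ((S : Subgroup (↥K' ⧸ R'.subgroupOf K')) : Set (↥K' ⧸ R'.subgroupOf K')),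
      ∀ g, g * z = z * g := fun h => hz (by
    rw [induced_zFun]
    exact ⟨fun z hz' g => by rwa [h z hz' g, mul_inv_cancel_right]⟩)
  obtain ⟨K, hK, hKn⟩ : ∃ K : Subgroup ↥(S : Subgroup (↥K' ⧸ R'.subgroupOf K')),
      (K ≠ ⊥ ∧ K.Characteristic ∧ GoodQ p K) ∧
        ¬ (K.map (S : Subgroup (↥K' ⧸ R'.subgroupOf K')).subtype).Normal := by
    by_contra hall
    push Not at hall
    refine hw ?_
    rw [inducedFunctor, wFun, (Subgroup.gc_map_comap _).l_sSup]
    exact biSup_normal _ _ fun K hK => hall K hK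
  rcases hK.2.2 _ S (MulEquiv.refl _) _ hc hm.M_ne_top (fun X hX hX' => hm.proper_le hX hX') hnc with
    hn | ⟨u, huS, huQ, hu⟩
  · exact hKn hn
  · obtain ⟨U, V, hch, hU, hbad⟩ := hm.exists_bad_factor huS huQ
    refine hbad ?_
    rw [show p - 1 = 2 by omega]
    exact hu U V hch hU

/-- The centre is replaced by its centralizer. -/
theorem inf_commutator_normalizer_le {G : Type u} [Group G] [Finite G] (P : Sylow p G) (K : Subgroup G)
    (hK : normalizer ((P : Subgroup G) : Set G) ≤ normalizer (K : Set G)) (Z : Subgroup G)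
    (hZ : (P : Subgroup G) ≤ centralizer (Z : Set G)) :
    (P : Subgroup G) ⊓ ⁅normalizer (Z : Set G), normalizer (Z : Set G)⁆ ≤
      ((P : Subgroup G) ⊓ ⁅centralizer (Z : Set G), centralizer (Z : Set G)⁆) ⊔
        ((P : Subgroup G) ⊓ ⁅normalizer (K : Set G), normalizer (K : Set G)⁆) := by
  set N := normalizer (Z : Set G) with hN
  set C := centralizer (Z : Set G) with hC
  set F := ((P : Subgroup G) ⊓ ⁅C, C⁆) ⊔
    ((P : Subgroup G) ⊓ ⁅normalizer (K : Set G), normalizer (K : Set G)⁆) with hF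
  have hCN : C ≤ N := centralizer_le_normalizer _
  have hPN : (P : Subgroup G) ≤ N := hZ.trans hCN
  haveI : (C.subgroupOf N).Normal := by
    rw [hC, hN, ← Subgroup.normalizerMonoidHom_ker]
    exact MonoidHom.normal_ker _
  have hfr := (P.subtype hPN).normalizer_sup_eq_top' (N := C.subgroupOf N) fun x hx => hZ hx
  have key := Cfsg.Agent.Transfer.Fusion.focal_le_of_fusion (P.subtype hPN) (F := F.subgroupOf N) ?_
  · rintro x ⟨hxP, hxN⟩
    refine mem_subgroupOf.1 (key (x := (⟨x, hPN hxP⟩ : ↥N)) ⟨?_, mem_subgroupOf.2 hxP⟩)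
    rw [← Subgroup.map_subtype_commutator] at hxN
    obtain ⟨y, hy, rfl⟩ := hxN
    exact hy
  intro x hx g hgx
  refine ⟨g, rfl, ?_⟩
  obtain ⟨c, hc, n, hn, rfl⟩ := mem_sup_of_normal_left.1 ((sup_comm _ _).trans hfr ▸ mem_top g)
  have hx' : (x : G) ∈ (P : Subgroup G) := mem_subgroupOf.1 hx
  set y : ↥N := n * x * n⁻¹ with hy
  have hy' : (y : G) ∈ (P : Subgroup G) := mem_subgroupOf.1 ((Subgroup.mem_normalizer_iff.1 hn x).1 hx)
  have hnP : (n : G) ∈ normalizer ((P : Subgroup G) : Set G) := by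
    have h1 := le_normalizer_map N.subtype (mem_map_of_mem N.subtype hn)
    rwa [show ((P.subtype hPN : Sylow p ↥N) : Subgroup ↥N) = (P : Subgroup G).subgroupOf N from rfl,
      map_subgroupOf_eq_of_le hPN] at h1
  have hgx' : (c : G) * y * (c : G)⁻¹ ∈ (P : Subgroup G) := by
    have h1 := mem_subgroupOf.1 hgx
    have e : (((c * n) * x * (c * n)⁻¹ : ↥N) : G) = (c : G) * y * (c : G)⁻¹ := by
      rw [hy]; push_cast; group
    rwa [e] at h1
  have e : ((⁅x, c * n⁆ : ↥N) : G) = ⁅(x : G), (n : G)⁆ * ⁅(y : G), (c : G)⁆ := by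
    rw [hy]
    simp only [commutatorElement_def, Subgroup.coe_mul, Subgroup.coe_inv]
    group
  rw [mem_subgroupOf, e]
  refine mul_mem (mem_sup_right ⟨?_, commutator_mem_commutator (hK (le_normalizer hx')) (hK hnP)⟩)
    (mem_sup_left ⟨?_, commutator_mem_commutator (hZ hy') (mem_subgroupOf.1 hc)⟩)
  · rw [commutatorElement_def, show (x : G) * n * (x : G)⁻¹ * (n : G)⁻¹ =
      x * (n * (x : G)⁻¹ * (n : G)⁻¹) by group]
    exact mul_mem hx' ((Subgroup.mem_normalizer_iff.1 hnP _).1 (inv_mem hx'))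
  · rw [commutatorElement_def, show (y : G) * c * (y : G)⁻¹ * (c : G)⁻¹ =
      y * ((c : G) * y * (c : G)⁻¹)⁻¹ by group]
    exact (P : Subgroup G).mul_mem hy' ((P : Subgroup G).inv_mem hgx')

/-- The focal subgroup is the product of the two intersections. -/
theorem focal_product (hp3 : p = 3) (S : Type u) [Group S] [Finite S] [Nontrivial S] (hS : IsPGroup p S) :
    ∃ K : Subgroup S, K ≠ ⊥ ∧ K.Characteristic ∧ ∀ (G : Type u) [Group G] [Finite G] (τ : S →* G),
      Function.Injective τ → ∀ P : Sylow p G, (P : Subgroup G) = τ.range →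
      ∀ g : G, g ∈ (P : Subgroup G) ⊓ commutator G ↔
        ∃ a ∈ (P : Subgroup G) ⊓ ⁅centralizer (((P : Subgroup G) ⊓ centralizer ((P : Subgroup G) : Set G) :
            Subgroup G) : Set G),
          centralizer (((P : Subgroup G) ⊓ centralizer ((P : Subgroup G) : Set G) : Subgroup G) : Set G)⁆,
        ∃ b ∈ (P : Subgroup G) ⊓ ⁅normalizer ((K.map τ : Subgroup G) : Set G),
          normalizer ((K.map τ : Subgroup G) : Set G)⁆, g = a * b := by
  refine ⟨wFun p S, (wFun_functor hp3).1 S hS inferInstance, wFun_char S, fun G _ _ τ hτ P hP g => ?_⟩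
  let φ : S ≃* ↥(P : Subgroup G) := (MonoidHom.ofInjective hτ).trans (MulEquiv.subgroupCongr hP.symm)
  have hWP : inducedFunctor (wFun p) (P : Subgroup G) = (wFun p S).map τ := by
    rw [inducedFunctor, ← map_wFun φ, Subgroup.map_map]
    rfl
  have hPK : normalizer ((P : Subgroup G) : Set G) ≤ normalizer ((wFun p S).map τ : Set G) := by
    rw [← hWP]
    exact normalizer_le_functor (isConjugacyFunctor_induced (wFun_functor hp3)) P.2
  set Z := (P : Subgroup G) ⊓ centralizer ((P : Subgroup G) : Set G) with hZdef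
  set K := (wFun p S).map τ with hKdef
  set A := (P : Subgroup G) ⊓ ⁅centralizer (Z : Set G), centralizer (Z : Set G)⁆ with hA
  set B := (P : Subgroup G) ⊓ ⁅normalizer (K : Set G), normalizer (K : Set G)⁆ with hB
  have hPZ : (P : Subgroup G) ≤ centralizer (Z : Set G) := fun x hx z hz => (hz.2 x hx).symm
  have hPB : A ≤ normalizer (B : Set G) := by
    intro a ha
    refine Cfsg.Agent.Techniques.Functor.mem_normalizer_inf (le_normalizer ha.1) ?_
    rw [← map_cnj_eq_self, map_commutator, map_cnj_eq_self.2 (le_normalizer (hPK (le_normalizer ha.1)))]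
  constructor
  · intro hg
    have h1 : g ∈ A ⊔ B := by
      refine (show kk {zFun, wFun p} (P : Subgroup G) ≤ A ⊔ B from iSup₂_le ?_) (tc_two hp3 G P hg)
      rintro _ ⟨W, (rfl | rfl), rfl⟩
      · show (P : Subgroup G) ⊓ ⁅normalizer (inducedFunctor zFun (P : Subgroup G) : Set G),
          normalizer (inducedFunctor zFun (P : Subgroup G) : Set G)⁆ ≤ A ⊔ B
        rw [induced_zFun]
        exact inf_commutator_normalizer_le P K hPK Z hPZ
      · show (P : Subgroup G) ⊓ ⁅normalizer (inducedFunctor (wFun p) (P : Subgroup G) : Set G),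
          normalizer (inducedFunctor (wFun p) (P : Subgroup G) : Set G)⁆ ≤ A ⊔ B
        rw [hWP]
        exact le_sup_right
    rw [← SetLike.mem_coe, coe_mul_of_left_le_normalizer_right A B hPB] at h1
    obtain ⟨a, ha, b, hb, rfl⟩ := h1
    exact ⟨a, ha, b, hb, rfl⟩
  · rintro ⟨a, ha, b, hb, rfl⟩
    exact ⟨mul_mem ha.1 hb.1, mul_mem (commutator_mono le_top le_top ha.2) (commutator_mono le_top le_top hb.2)⟩

end Cfsg.Agent.GenA.TwoNorm
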